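import Groth.Agent.TorusFibLib.Complete
import Groth.Agent.AlgSpLib.AffineDescent
import Groth.Agent.CohenLib.FlatUnramified
import Groth.Agent.LimAmpleLib.Stalk
import Groth.Agent.S2582

/-!
# Groups with torus fibres are affine
-/

set_option autoImplicit false
set_option linter.style.haveILetI false
set_option backward.isDefEq.respectTransparency false
set_option backward.isDefEq.respectTransparency.types false
set_option synthInstance.maxHeartbeats 200000
set_option maxHeartbeats 1600000

noncomputable section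

universe u

open CategoryTheory CategoryTheory.Limits MonoidalCategory CartesianMonoidalCategory AlgebraicGeometry
open scoped MonObj

attribute [-instance] CategoryTheory.Hom.commGroup

namespace Groth.Agent.TorusFib

theorem isAffineHom_bc_stalk {S : Scheme.{u}} [IsLocallyNoetherian S] {H : Over S} [GrpObj H] [Flat H.hom]
    [LocallyOfFinitePresentation H.hom] [QuasiCompact H.hom]
    (hfib : ∀ s : S, Red.IsTorus (Red.bc (S.fromSpecResidueField s) H)) (s : S) :
    IsAffineHom (pullback.snd H.hom (S.fromSpecStalk s)) := by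
  let O : CommRingCat := S.presheaf.stalk s
  let m := IsLocalRing.maximalIdeal O
  obtain ⟨hl, hn, hlh, hmap, -⟩ := CohenLib.completion_facts O m (IsLocalRing.maximalIdeal.isMaximal O).ne_top
  let C := AdicCompletion m O
  haveI : IsLocalRing C := hl
  haveI : IsNoetherianRing C := hn
  haveI : IsLocalHom (algebraMap O C) := hlh
  haveI : IsAdicComplete (IsLocalRing.maximalIdeal C) C := hmap ▸ (IsAdicComplete.map_algebraMap_iff _ _).2
    (AdicCompletion.isAdicComplete (M := O) (IsNoetherian.noetherian _))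
  haveI : Module.FaithfullyFlat O C := Module.FaithfullyFlat.of_flat_of_isLocalHom
  let b : Spec (CommRingCat.of C) ⟶ Spec O := Spec.map (CommRingCat.ofHom (algebraMap O C))
  obtain ⟨hb1, hb2⟩ := (flat_and_surjective_SpecMap_iff (CommRingCat.ofHom (algebraMap O C))).mpr
    (RingHom.faithfullyFlat_algebraMap_iff.mpr inferInstance)
  haveI : Flat b := hb1
  haveI : Surjective b := hb2
  let f : Spec (CommRingCat.of C) ⟶ S := b ≫ S.fromSpecStalk s
  haveI : Flat (Red.bc f H).hom := MorphismProperty.pullback_snd (P := @Flat) _ _ inferInstance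
  haveI : LocallyOfFinitePresentation (Red.bc f H).hom :=
    MorphismProperty.pullback_snd (P := @LocallyOfFinitePresentation) _ _ inferInstance
  haveI : QuasiCompact (Red.bc f H).hom := MorphismProperty.pullback_snd (P := @QuasiCompact) _ _ inferInstance
  haveI haff : IsAffineHom (pullback.snd H.hom f) :=
    isAffineHom_of_complete (H := Red.bc f H) fun z => fib_bc f hfib z
  refine MorphismProperty.of_pullback_snd_of_descendsAlong (P := @IsAffineHom)
    (Q := @Surjective ⊓ @Flat ⊓ @QuasiCompact) (g := b) ⟨⟨inferInstance, inferInstance⟩, inferInstance⟩ ?_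
  have : pullback.snd (pullback.snd H.hom (S.fromSpecStalk s)) b =
      (pullbackLeftPullbackSndIso H.hom (S.fromSpecStalk s) b).hom ≫ pullback.snd H.hom f :=
    (pullbackLeftPullbackSndIso_hom_snd H.hom (S.fromSpecStalk s) b).symm
  rw [this]
  exact inferInstanceAs (IsAffineHom ((pullbackLeftPullbackSndIso H.hom (S.fromSpecStalk s) b).hom ≫ _))

theorem exists_isAffineHom_nhd {S X : Scheme.{u}} (f : X ⟶ S) [LocallyOfFinitePresentation f] [QuasiCompact f]
    [QuasiSeparated f] (s : S) (h : IsAffineHom (pullback.snd f (S.fromSpecStalk s))) :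
    ∃ U : S.Opens, s ∈ U ∧ IsAffineHom (f ∣_ U) := by
  let i₀ : LimAmpleLib.AffNb s := Classical.arbitrary _
  haveI : ∀ (i j : LimAmpleLib.AffNb s) (φ : i ⟶ j), IsAffineHom ((LimAmpleLib.nbD s).map φ) := fun i j φ => by
    haveI : IsAffine i.1.toScheme := i.2.1
    haveI : IsAffine j.1.toScheme := j.2.1
    show IsAffineHom (S.homOfLE (leOfHom φ))
    infer_instance
  haveI : IsAffine ((LimAmpleLib.nbD s).obj i₀) := i₀.2.1
  let f₀ : pullback f i₀.1.ι ⟶ i₀.1.toScheme := pullback.snd f i₀.1.ι
  let c := LimAmpleLib.nbCone s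
  let q : pullback f (S.fromSpecStalk s) ⟶ pullback f i₀.1.ι :=
    pullback.lift (pullback.fst _ _) (pullback.snd _ _ ≫ LimAmpleLib.nbπ s i₀)
      (by rw [Category.assoc, LimAmpleLib.nbπ_ι]; exact pullback.condition)
  have hX : IsPullback q (pullback.snd f (S.fromSpecStalk s)) f₀ (LimAmpleLib.nbπ s i₀) :=
    IsPullback.of_right (by
      rw [show q ≫ pullback.fst f i₀.1.ι = pullback.fst _ _ from pullback.lift_fst _ _ _, LimAmpleLib.nbπ_ι]
      exact IsPullback.of_hasPullback f (S.fromSpecStalk s)) (pullback.lift_snd _ _ _)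
      (IsPullback.of_hasPullback f i₀.1.ι)
  haveI : IsAffineHom (pullback.snd f (S.fromSpecStalk s)) := h
  haveI : LocallyOfFinitePresentation (f₀ ≫ 𝟙 _) := by
    rw [Category.comp_id]; exact MorphismProperty.pullback_snd (P := @LocallyOfFinitePresentation) _ _ inferInstance
  haveI : QuasiCompact (f₀ ≫ 𝟙 _) := by
    rw [Category.comp_id]; exact MorphismProperty.pullback_snd (P := @QuasiCompact) _ _ inferInstance
  haveI : QuasiSeparated (f₀ ≫ 𝟙 _) := by
    rw [Category.comp_id]; exact MorphismProperty.pullback_snd (P := @QuasiSeparated) _ _ inferInstance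
  haveI : IsIso (𝟙 c.pt) := IsIso.id _
  obtain ⟨i, φ, Xi, Yi, fi, gi, pY, pX, hY, hXi, hfi⟩ := Groth.Agent.S2582.result (LimAmpleLib.nbD s) c
    (LimAmpleLib.isLimitNbCone s) i₀ f₀ (𝟙 _) (pullback.snd f (S.fromSpecStalk s)) (𝟙 c.pt)
    (LimAmpleLib.nbπ s i₀) q (IsPullback.of_vert_isIso ⟨by simp [c, LimAmpleLib.nbCone]⟩) hX
  haveI : IsIso gi := hY.isIso_snd_of_isIso
  haveI := hfi
  refine ⟨i.1, i.2.2, ?_⟩
  have sq : IsPullback (pX ≫ pullback.fst f i₀.1.ι) (fi ≫ gi) f i.1.ι := by
    have h0 := hXi.paste_vert hY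
    rw [Category.comp_id] at h0
    have h1 := h0.paste_horiz (IsPullback.of_hasPullback f i₀.1.ι)
    have e : (LimAmpleLib.nbD s).map φ ≫ i₀.1.ι = i.1.ι := S.homOfLE_ι (leOfHom φ)
    rwa [e] at h1
  rw [morphismRestrict, ← sq.isoPullback_inv_snd]
  infer_instance

theorem isAffineHom_of_torus_fibres {S : Scheme.{u}} [IsLocallyNoetherian S] {H : Over S} [GrpObj H] [Flat H.hom]
    [LocallyOfFinitePresentation H.hom] [QuasiCompact H.hom]
    (hfib : ∀ s : S, Red.IsTorus (Red.bc (S.fromSpecResidueField s) H)) : IsAffineHom H.hom := by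
  haveI : IsSeparated H.hom := isSeparated_of_torus_fibres hfib
  choose U hU haff using fun s => exists_isAffineHom_nhd H.hom s (isAffineHom_bc_stalk hfib s)
  exact IsZariskiLocalAtTarget.of_iSup_eq_top (P := @IsAffineHom) U
    (top_le_iff.1 fun s _ => TopologicalSpace.Opens.mem_iSup.2 ⟨s, hU s⟩) haff

end Groth.Agent.TorusFib
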