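import Groth.Agent.TorusFibLib.Geom
import Groth.Agent.MaxTorusRankLib.Etale
import Groth.Agent.FibDimLib.Semicont
import Groth.Agent.AbSchLib.Flat
import Groth.Agent.DescHomLib.MultBC
import Groth.Agent.EqNhdLib.Main
import Groth.Agent.S12442

/-!
# Affine groups all of whose fibres are tori are tori
-/

set_option autoImplicit false
set_option linter.style.haveILetI false
set_option backward.isDefEq.respectTransparency false
set_option backward.isDefEq.respectTransparency.types false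
set_option synthInstance.maxHeartbeats 200000
set_option maxHeartbeats 1600000

noncomputable section

universe u

open CategoryTheory CategoryTheory.Limits MonoidalCategory CartesianMonoidalCategory AlgebraicGeometry
open scoped MonObj

attribute [-instance] CategoryTheory.Hom.commGroup

namespace Groth.Agent.TorusFib

open RedRank (Has TA)
open CoactBr
attribute [local instance] CoactBr.braidedAlgSpecOf

variable {S : Scheme.{u}} {H : Over S} [GrpObj H]

theorem le_of_has_of_iso {K : Type u} [Field K] [IsAlgClosed K] {G : Over (Spec (CommRingCat.of K))} [GrpObj G]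
    {n m : ℕ} (e : Red.DS (Spec (CommRingCat.of K)) (Fin n → ℤ) ≅ G) [IsMonHom e.hom] (h : Has G m) : m ≤ n := by
  obtain ⟨j, hj, hjm⟩ := (RedRank.has_iff _ m).1 h
  haveI := hj; haveI := hjm
  obtain ⟨w, hw, hw'⟩ := TorusField.exists_DS_iso K (Fin n → ℤ)
  haveI := hw; haveI := hw'
  haveI : IsMonHom e.inv := inferInstance
  exact (RedRank.le_and_isIso_of_mono (j ≫ e.inv ≫ w.inv)).1

theorem isIso_of_mono_DS {K : Type u} [Field K] [IsAlgClosed K] {G : Over (Spec (CommRingCat.of K))} [GrpObj G]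
    {n : ℕ} (e : Red.DS (Spec (CommRingCat.of K)) (Fin n → ℤ) ≅ G) [IsMonHom e.hom]
    (j : Red.DS (Spec (CommRingCat.of K)) (Fin n → ℤ) ⟶ G) [IsMonHom j] [Mono j] : IsIso j := by
  obtain ⟨w, hw, hw'⟩ := TorusField.exists_DS_iso K (Fin n → ℤ)
  haveI := hw; haveI := hw'
  haveI : IsMonHom e.inv := inferInstance
  haveI := (RedRank.le_and_isIso_of_mono (w.hom ≫ j ≫ e.inv ≫ w.inv)).2 rfl
  have : j = w.inv ≫ (w.hom ≫ j ≫ e.inv ≫ w.inv) ≫ w.hom ≫ e.hom := by simp
  rw [this]
  infer_instance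

theorem exists_local_split [Flat H.hom] [LocallyOfFinitePresentation H.hom] [IsAffineHom H.hom]
    (hfib : ∀ s : S, Red.IsTorus (Red.bc (S.fromSpecResidueField s) H)) (s : S) :
    ∃ (Q : Scheme.{u}) (g : Q ⟶ S) (n : ℕ), Smooth g ∧ s ∈ Set.range g ∧
      Nonempty (Grp.mk (Red.bc g H) ≅ Grp.mk (Red.DS Q (Fin n → ℤ))) := by
  haveI : Smooth H.hom := smooth_of_torus_fibres hfib
  obtain ⟨n, e, he⟩ := exists_torus_geom hfib (Red.geomPt s)
  haveI := he
  obtain ⟨W, g, i, hg, hi, him, hcov⟩ := RedRank.exists_cover H n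
  haveI := hg; haveI := hi; haveI := him
  have hs : s ∈ Set.range g := hcov s ⟨e.hom, inferInstance, inferInstance⟩
  let σ : S ⟶ H.left := (η[H] : 𝟙_ (Over S) ⟶ H).left
  let U : S.Opens := ⟨σ ⁻¹' {x | FlatMor.fibreDimAt H.hom x ≤ ((n : ℕ) : WithBot ℕ∞)},
    (FibDimLib.isOpen_fibreDimAt_le (f := H.hom) ((n : ℕ) : WithBot ℕ∞)).preimage σ.continuous⟩
  have hsU : s ∈ U := by
    have h := fibreDimAt_one (Red.geomPt s) e
    rw [RedRank.geomPt_apply] at h
    exact h.le
  let V : W.Opens := g ⁻¹ᵁ U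
  let g' : (V : Scheme.{u}) ⟶ S := V.ι ≫ g
  obtain ⟨θ, hθ⟩ := RedCharZeroLib.exists_bc_comp V.ι g H
  obtain ⟨d, hd⟩ := RedCharZeroLib.exists_DS_bc V.ι (Fin n → ℤ)
  haveI := hθ; haveI := hd
  haveI : IsMonHom θ.inv := inferInstance
  haveI : IsMonHom (M := Red.bc V.ι (Red.DS W (Fin n → ℤ))) (N := Red.bc V.ι (Red.bc g H))
      ((Over.pullback V.ι).map i) := DiagRep.isMonHom_bc_map _ i
  haveI : Mono ((Over.pullback V.ι).map i) := by
    haveI : (Over.pullback V.ι).IsRightAdjoint := (Over.mapPullbackAdj _).isRightAdjoint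
    infer_instance
  let i' : Red.DS (V : Scheme.{u}) (Fin n → ℤ) ⟶ Red.bc g' H :=
    d.hom ≫ (Over.pullback V.ι).map i ≫ θ.inv
  haveI : IsMonHom i' := inferInstanceAs (IsMonHom (d.hom ≫ (Over.pullback V.ι).map i ≫ θ.inv))
  haveI : Mono i' := inferInstanceAs (Mono (d.hom ≫ (Over.pullback V.ι).map i ≫ θ.inv))
  have hfib' : ∀ z : (V : Scheme.{u}), Red.IsTorus (Red.bc ((V : Scheme.{u}).fromSpecResidueField z) (Red.bc g' H)) := by
    intro z
    obtain ⟨a, ha⟩ := RedCharZeroLib.exists_bc_comp ((V : Scheme.{u}).fromSpecResidueField z) g' H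
    haveI := ha
    haveI : IsMonHom a.symm.hom := inferInstanceAs (IsMonHom a.inv)
    exact RedRank.isTorus_of_iso a.symm (isTorus_bc_of_fibres hfib _)
  have hgeom : ∀ (K : Type u) [Field K] [IsAlgClosed K] (ξ : Spec (CommRingCat.of K) ⟶ (V : Scheme.{u})),
      IsIso ((Over.pullback ξ).map i') := by
    intro K _ _ ξ
    obtain ⟨m, a, ha⟩ := exists_torus_geom hfib' ξ
    haveI := ha
    obtain ⟨b, hb⟩ := RedCharZeroLib.exists_DS_bc ξ (Fin n → ℤ)
    haveI := hb
    haveI : IsMonHom (M := Red.bc ξ (Red.DS (V : Scheme.{u}) (Fin n → ℤ))) (N := Red.bc ξ (Red.bc g' H))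
        ((Over.pullback ξ).map i') := DiagRep.isMonHom_bc_map _ i'
    haveI : Mono ((Over.pullback ξ).map i') := by
      haveI : (Over.pullback ξ).IsRightAdjoint := (Over.mapPullbackAdj _).isRightAdjoint
      infer_instance
    let j : Red.DS (Spec (CommRingCat.of K)) (Fin n → ℤ) ⟶ Red.bc ξ (Red.bc g' H) :=
      b.hom ≫ (Over.pullback ξ).map i'
    haveI : IsMonHom j := inferInstanceAs (IsMonHom (b.hom ≫ (Over.pullback ξ).map i'))
    haveI : Mono j := inferInstanceAs (Mono (b.hom ≫ (Over.pullback ξ).map i'))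
    have h1 : n ≤ m := le_of_has_of_iso a ⟨j, inferInstance, inferInstance⟩
    obtain ⟨c, hc⟩ := RedCharZeroLib.exists_bc_comp ξ g' H
    haveI := hc
    haveI : IsMonHom c.inv := inferInstance
    have h2 : m ≤ n := by
      have h := fibreDimAt_one (ξ ≫ g') (a ≪≫ c.symm)
      have hmem : (ξ ≫ g') (IsLocalRing.closedPoint K) ∈ U := (ξ (IsLocalRing.closedPoint K)).2
      have h' : ((m : ℕ) : WithBot ℕ∞) ≤ n := h.symm.trans_le hmem
      exact_mod_cast h'
    obtain rfl : n = m := le_antisymm h1 h2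
    haveI := isIso_of_mono_DS a j
    exact IsIso.of_isIso_comp_left b.hom _
  haveI := EqNhd.flat_DS (V : Scheme.{u}) (Fin n → ℤ)
  haveI : LocallyOfFinitePresentation (Red.DS (V : Scheme.{u}) (Fin n → ℤ)).hom := MultEq.lfp_DS _ _
  haveI : LocallyOfFiniteType (Red.bc g' H).hom :=
    MorphismProperty.pullback_snd (P := @LocallyOfFiniteType) _ _ inferInstance
  haveI : Flat i'.left := AbSchLib.flat_of_geometric_fibres i' fun K _ _ ξ => by
    haveI := hgeom K ξ
    haveI : IsIso ((Over.pullback ξ).map i').left :=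
      inferInstanceAs (IsIso ((Over.forget _).map ((Over.pullback ξ).map i')))
    infer_instance
  haveI : LocallyOfFinitePresentation i'.left := by
    haveI : LocallyOfFinitePresentation (i'.left ≫ (Red.bc g' H).hom) := by rw [Over.w i']; infer_instance
    exact Groth.Agent.S12442.lfp_of_comp_lft i'.left (Red.bc g' H).hom
  haveI : Surjective i'.left := ⟨fun t => by
    let ξ := Red.geomPt ((Red.bc g' H).hom t)
    haveI := hgeom _ ξ
    haveI : IsIso ((Over.pullback ξ).map i').left :=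
      inferInstanceAs (IsIso ((Over.forget _).map ((Over.pullback ξ).map i')))
    obtain ⟨t', ht'⟩ : t ∈ Set.range (pullback.fst (Red.bc g' H).hom ξ) := by
      rw [Scheme.Pullback.range_fst]
      exact ⟨_, RedRank.geomPt_apply _⟩
    obtain ⟨x, hx⟩ := ((Over.pullback ξ).map i').left.surjective t'
    refine ⟨pullback.fst _ ξ x, ?_⟩
    rw [← Scheme.Hom.comp_apply, (PowEtCentralLib.isPullback_map_left ξ i').w, Scheme.Hom.comp_apply]
    exact (congrArg (pullback.fst (Red.bc g' H).hom ξ) hx).trans ht'⟩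
  haveI : Mono i'.left := inferInstanceAs (Mono ((Over.forget _).map i'))
  haveI : IsOpenImmersion i'.left := IsOpenImmersion.of_flat_of_mono i'.left
  haveI : IsIso i'.left := by
    haveI : Epi i'.left.base := (TopCat.epi_iff_surjective _).2 i'.left.surjective
    exact IsOpenImmersion.isIso i'.left
  haveI : IsIso i' := by
    haveI : IsIso ((Over.forget _).map i') := ‹IsIso i'.left›
    exact isIso_of_reflects_iso i' (Over.forget _)
  obtain ⟨z, hz⟩ := hs
  refine ⟨V, g', n, inferInstanceAs (Smooth (V.ι ≫ g)), ⟨⟨z, show g z ∈ U by rw [hz]; exact hsU⟩, hz⟩, ⟨?_⟩⟩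
  haveI : IsMonHom (asIso i').inv := by
    haveI : IsMonHom (asIso i').hom := inferInstanceAs (IsMonHom i')
    infer_instance
  exact Grp.mkIso (asIso i').symm (IsMonHom.one_hom (asIso i').inv) (IsMonHom.mul_hom (asIso i').inv)

/-- An affine group with torus fibres is a torus. -/
theorem isTorus_of_affine_of_fibres [Flat H.hom] [LocallyOfFinitePresentation H.hom] [IsAffineHom H.hom]
    (hfib : ∀ s : S, Red.IsTorus (Red.bc (S.fromSpecResidueField s) H)) : Red.IsTorus H := by
  choose Q g n hg hs he using exists_local_split hfib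
  haveI := hg
  let f : ∐ Q ⟶ S := Limits.Sigma.desc g
  haveI : Smooth f := IsZariskiLocalAtSource.sigmaDesc (P := @Smooth) hg
  have hι : ∀ k, Limits.Sigma.ι Q k ≫ f = g k := fun k => Limits.Sigma.ι_desc _ _
  haveI : Surjective f := ⟨fun s => by
    obtain ⟨w, hw⟩ := hs s
    exact ⟨Limits.Sigma.ι Q s w, by rw [← Scheme.Hom.comp_apply, hι]; exact hw⟩⟩
  refine ⟨∐ Q, f, inferInstance, inferInstance, RedRank.hcov_of_open f, fun x => ?_⟩
  obtain ⟨k, w, rfl⟩ : ∃ k w, Limits.Sigma.ι Q k w = x :=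
    ⟨(sigmaOpenCover Q).idx x, (sigmaOpenCover Q).covers x⟩
  let U := (Limits.Sigma.ι Q k).opensRange
  let l : (U : Scheme.{u}) ⟶ Q k := (Limits.Sigma.ι Q k).isoOpensRange.inv
  have hl : l ≫ g k = U.ι ≫ f := by
    rw [← hι k, ← Category.assoc]
    exact congrArg (· ≫ f) (Scheme.Hom.isoOpensRange_inv_comp _)
  obtain ⟨E⟩ := he k
  let e₁ : Red.bc (g k) H ≅ Red.DS (Q k) (Fin (n k) → ℤ) := (Grp.forget _).mapIso E
  haveI : IsMonHom e₁.hom := E.hom.hom.isMonHom_hom
  let b : Red.bc l (Red.bc (g k) H) ≅ Red.bc (U.ι ≫ f) H := ActBC.bcCompIso l (g k) H hl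
  haveI : IsMonHom b.hom := ActBC.bcCompIso_isMonHom _ _ _
  haveI : IsMonHom b.inv := inferInstance
  obtain ⟨d, hd⟩ := RedCharZeroLib.exists_DS_bc l (Fin (n k) → ℤ)
  haveI := hd
  haveI : IsMonHom d.inv := inferInstance
  haveI : IsMonHom (M := Red.bc l (Red.bc (g k) H)) (N := Red.bc l (Red.DS (Q k) (Fin (n k) → ℤ)))
      ((Over.pullback l).map e₁.hom) := DiagRep.isMonHom_bc_map l e₁.hom
  let w' : Red.bc (U.ι ≫ f) H ≅ Red.DS (U : Scheme.{u}) (Fin (n k) → ℤ) :=
    b.symm ≪≫ (Over.pullback l).mapIso e₁ ≪≫ d.symm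
  haveI : IsMonHom w'.hom := inferInstanceAs (IsMonHom (b.inv ≫ (Over.pullback l).map e₁.hom ≫ d.inv))
  exact ⟨U, ⟨w, rfl⟩, n k, ⟨Grp.mkIso w' (IsMonHom.one_hom w'.hom) (IsMonHom.mul_hom w'.hom)⟩⟩

end Groth.Agent.TorusFib
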