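import Groth.Agent.TorusFibLib.Point
import Groth.Agent.TorusFibLib.Affine
import Groth.Agent.TorusFibLib.Torus
import Groth.Agent.GrpSchLib.Cartier
import Groth.Agent.S2155

/-!
# The fibres near a torus fibre are tori
-/

set_option autoImplicit false
set_option linter.style.haveILetI false
set_option backward.isDefEq.respectTransparency false
set_option backward.isDefEq.respectTransparency.types false
set_option synthInstance.maxHeartbeats 200000
set_option maxHeartbeats 800000

noncomputable section

universe u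

open CategoryTheory CategoryTheory.Limits MonoidalCategory CartesianMonoidalCategory AlgebraicGeometry
open scoped MonObj

attribute [-instance] CategoryTheory.Hom.commGroup

namespace Groth.Agent.TorusFib

open RedRank (Has)

variable {S : Scheme.{u}} {H : Over S} [GrpObj H]

/-- If a group is smooth at a point of the unit section, it is smooth along that fibre. -/
theorem mem_smoothLocus_of_unit [Flat H.hom] [LocallyOfFinitePresentation H.hom] {t : S}
    (h : (η[H] : 𝟙_ (Over S) ⟶ H).left t ∈ H.hom.smoothLocus) {x : H.left} (hx : H.hom x = t) :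
    x ∈ H.hom.smoothLocus := by
  let c := S.fromSpecResidueField t
  let F : Over (Spec (CommRingCat.of (S.residueField t))) := Red.bc c H
  haveI : LocallyOfFinitePresentation (pullback.snd H.hom c) :=
    MorphismProperty.pullback_snd (P := @LocallyOfFinitePresentation) _ _ inferInstance
  haveI : LocallyOfFinitePresentation F.hom := inferInstanceAs (LocallyOfFinitePresentation (pullback.snd H.hom c))
  have he := Groth.Agent.S2155.result H.hom c (pullback.snd H.hom c) (pullback.fst H.hom c)
    (IsPullback.of_hasPullback _ _) (Or.inl inferInstance)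
  let z : Spec (S.residueField t) ⟶ pullback H.hom c :=
    pullback.lift (c ≫ (η[H] : 𝟙_ (Over S) ⟶ H).left) (𝟙 _) (by
      have h1 : (η[H] : 𝟙_ (Over S) ⟶ H).left ≫ H.hom = 𝟙 S := Over.w _
      rw [Category.assoc, h1, Category.comp_id, Category.id_comp])
  haveI : Smooth F.hom := by
    refine GrpSchLib.smooth_of_smoothLocus_nonempty F ⟨z (IsLocalRing.closedPoint _), ?_⟩
    show z (IsLocalRing.closedPoint _) ∈ (pullback.snd H.hom c).smoothLocus
    rw [he]
    show pullback.fst H.hom c (z (IsLocalRing.closedPoint _)) ∈ H.hom.smoothLocus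
    rw [← Scheme.Hom.comp_apply, pullback.lift_fst, Scheme.Hom.comp_apply,
      show c (IsLocalRing.closedPoint _) = t from S.fromSpecResidueField_apply _ _]
    exact h
  obtain ⟨y, rfl⟩ : x ∈ Set.range (pullback.fst H.hom c) := by
    rw [Scheme.Pullback.range_fst, Scheme.range_fromSpecResidueField]
    exact hx
  have hy : y ∈ (pullback.snd H.hom c).smoothLocus :=
    (Scheme.Hom.smoothLocus_eq_top (F.hom)).ge (trivial : y ∈ (⊤ : F.left.Opens))
  rw [he] at hy
  exact hy

/-- Near a torus fibre the group is smooth. -/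
theorem exists_smooth_nhd [Flat H.hom] [LocallyOfFinitePresentation H.hom] {s : S}
    (hs : Red.IsTorus (Red.bc (S.fromSpecResidueField s) H)) :
    ∃ U : S.Opens, s ∈ U ∧ Smooth (Red.bc U.ι H).hom := by
  let σ : S ⟶ H.left := (η[H] : 𝟙_ (Over S) ⟶ H).left
  have hsm : σ s ∈ H.hom.smoothLocus := by
    let c := S.fromSpecResidueField s
    haveI : Smooth (pullback.snd H.hom c) := TorusLift.smooth_of_isTorus hs
    have he := Groth.Agent.S2155.result H.hom c (pullback.snd H.hom c) (pullback.fst H.hom c)
      (IsPullback.of_hasPullback _ _) (Or.inl inferInstance)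
    obtain ⟨y, hy⟩ : σ s ∈ Set.range (pullback.fst H.hom c) := by
      rw [Scheme.Pullback.range_fst, Scheme.range_fromSpecResidueField]
      show H.hom (σ s) = s
      rw [← Scheme.Hom.comp_apply, show σ ≫ H.hom = 𝟙 S from Over.w _]
      rfl
    have h1 : y ∈ (pullback.snd H.hom c).smoothLocus := (Scheme.Hom.smoothLocus_eq_top _).ge trivial
    rw [he] at h1
    rw [← hy]
    exact h1
  let U : S.Opens := σ ⁻¹ᵁ H.hom.smoothLocus
  refine ⟨U, hsm, ?_⟩
  haveI : LocallyOfFinitePresentation (pullback.snd H.hom U.ι) :=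
    MorphismProperty.pullback_snd (P := @LocallyOfFinitePresentation) _ _ inferInstance
  show Smooth (pullback.snd H.hom U.ι)
  rw [← Scheme.Hom.smoothLocus_eq_top_iff, Groth.Agent.S2155.result H.hom U.ι _ (pullback.fst H.hom U.ι)
    (IsPullback.of_hasPullback _ _) (Or.inl inferInstance)]
  refine top_le_iff.1 fun y _ => mem_smoothLocus_of_unit ?_
    (show H.hom (pullback.fst H.hom U.ι y) = U.ι (pullback.snd H.hom U.ι y) by
      rw [← Scheme.Hom.comp_apply, pullback.condition, Scheme.Hom.comp_apply])
  exact (pullback.snd H.hom U.ι y).2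

/-- For a smooth group with connected affine fibres the fibres near a torus fibre are tori. -/
theorem exists_nhd_fibres_torus [IsLocallyNoetherian S] [Smooth H.hom] [IsSeparated H.hom] [QuasiCompact H.hom]
    (hconn : ∀ t : S, ConnectedSpace ↥(pullback H.hom (S.fromSpecResidueField t)))
    (haff : ∀ t : S, IsAffine (pullback H.hom (S.fromSpecResidueField t)))
    {s : S} (hs : Red.IsTorus (Red.bc (S.fromSpecResidueField s) H)) :
    ∃ U : S.Opens, s ∈ U ∧ ∀ t ∈ U, Red.IsTorus (Red.bc (S.fromSpecResidueField t) H) := by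
  let σ : S ⟶ H.left := (η[H] : 𝟙_ (Over S) ⟶ H).left
  obtain ⟨r, e, he⟩ := exists_DS_of_isTorus (isTorus_bc_point hs (Red.geomPt s) (RedRank.geomPt_apply s))
  haveI := he
  have hr : FlatMor.fibreDimAt H.hom (σ s) = r := by
    have h := fibreDimAt_one (Red.geomPt s) e
    rw [RedRank.geomPt_apply] at h
    exact h
  obtain ⟨O, n, hO, hn⟩ := AlgSpLib.exists_open_fibreDimAt_of_smooth H.hom (σ s)
  -- affine over the local scheme
  let c := S.fromSpecStalk s
  haveI : IsNoetherianRing (S.presheaf.stalk s) := inferInstance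
  haveI : Flat (Red.bc c H).hom := MorphismProperty.pullback_snd (P := @Flat) _ _ inferInstance
  haveI : LocallyOfFinitePresentation (Red.bc c H).hom :=
    MorphismProperty.pullback_snd (P := @LocallyOfFinitePresentation) _ _ inferInstance
  haveI : QuasiCompact (Red.bc c H).hom := MorphismProperty.pullback_snd (P := @QuasiCompact) _ _ inferInstance
  have hloc : IsAffineHom (pullback.snd H.hom c) := isAffineHom_of_torus_fibres (H := Red.bc c H) fun z => by
    obtain ⟨θ, hθ⟩ := RedCharZeroLib.exists_bc_comp ((Spec (S.presheaf.stalk s)).fromSpecResidueField z) c H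
    haveI := hθ
    haveI : IsMonHom θ.symm.hom := inferInstanceAs (IsMonHom θ.inv)
    refine RedRank.isTorus_of_iso θ.symm (isTorus_bc_point (K := (Spec (S.presheaf.stalk s)).residueField z)
      (isTorus_of_specializes hconn haff (s := s) (t := c z) ?_ hs) _ ?_)
    · have : c z ∈ Set.range c := ⟨z, rfl⟩
      rwa [Scheme.range_fromSpecStalk] at this
    · rw [Scheme.Hom.comp_apply]
      congr 1
      exact Scheme.fromSpecResidueField_apply _ _
  obtain ⟨U, hsU, hU⟩ := exists_isAffineHom_nhd H.hom s hloc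
  let HU := Red.bc U.ι H
  haveI : IsAffineHom HU.hom := by
    show IsAffineHom (pullback.snd H.hom U.ι)
    have h : pullback.snd H.hom U.ι = (pullbackRestrictIsoRestrict H.hom U).hom ≫ (H.hom ∣_ U) := by
      rw [morphismRestrict, Iso.hom_inv_id_assoc]
    haveI := hU
    rw [h]
    infer_instance
  haveI : Smooth HU.hom := MorphismProperty.pullback_snd (P := @Smooth) _ _ inferInstance
  obtain ⟨V, hV⟩ := RedRank.exists_open HU r
  refine ⟨(U.ι ''ᵁ V) ⊓ σ ⁻¹ᵁ O, ⟨?_, hO⟩, ?_⟩
  · refine ⟨⟨s, hsU⟩, ?_, rfl⟩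
    let p : Spec (CommRingCat.of (AlgebraicClosure (S.residueField s))) ⟶ (U : Scheme.{u}) :=
      IsOpenImmersion.lift U.ι (Red.geomPt s) (by
        rintro _ ⟨x, rfl⟩
        rw [Scheme.Opens.range_ι, Subsingleton.elim (α := ↥(Spec (CommRingCat.of (AlgebraicClosure (S.residueField s))))) x (IsLocalRing.closedPoint _),
          RedRank.geomPt_apply]
        exact hsU)
    have hp : p ≫ U.ι = Red.geomPt s := IsOpenImmersion.lift_fac _ _ _
    have h1 : Has (Red.bc (p ≫ U.ι) H) r := by
      rw [hp]
      exact ⟨e.hom, inferInstance, inferInstance⟩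
    have h2 := (hV _ p).1 ((MaxTorusRank.has_bc_bc_iff H U.ι p r).2 h1)
    have hps : p (IsLocalRing.closedPoint _) = (⟨s, hsU⟩ : (U : Scheme.{u})) := by
      apply U.ι.isOpenEmbedding.injective
      rw [← Scheme.Hom.comp_apply, hp, RedRank.geomPt_apply]
      rfl
    rw [hps] at h2
    exact h2
  · rintro _ ⟨⟨z, hz, rfl⟩, hzO⟩
    obtain ⟨hA, hC, hdim⟩ := geom_facts hconn haff (U.ι z)
    haveI := hA; haveI := hC
    haveI : Smooth (Red.geomFibre (U.ι z) H).hom := MorphismProperty.pullback_snd (P := @Smooth) _ _ inferInstance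
    have hdim' : topologicalKrullDim (Red.geomFibre (U.ι z) H).left = r :=
      hdim.trans ((hn _ hzO).trans ((hn _ hO).symm.trans hr))
    let p : Spec (CommRingCat.of (AlgebraicClosure (S.residueField (U.ι z)))) ⟶ (U : Scheme.{u}) :=
      IsOpenImmersion.lift U.ι (Red.geomPt (U.ι z)) (by
        rintro _ ⟨x, rfl⟩
        rw [Subsingleton.elim (α := ↥(Spec (CommRingCat.of (AlgebraicClosure (S.residueField (U.ι z)))))) x (IsLocalRing.closedPoint _),
          RedRank.geomPt_apply]
        exact ⟨z, rfl⟩)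
    have hp : p ≫ U.ι = Red.geomPt (U.ι z) := IsOpenImmersion.lift_fac _ _ _
    have hpz : p (IsLocalRing.closedPoint _) = z := by
      apply U.ι.isOpenEmbedding.injective
      rw [← Scheme.Hom.comp_apply, hp, RedRank.geomPt_apply]
    have h1 := (MaxTorusRank.has_bc_bc_iff H U.ι p r).1 ((hV _ p).2 (by rw [hpz]; exact hz))
    rw [hp] at h1
    exact isTorus_fibre_of_point (Red.geomPt (U.ι z)) (RedRank.geomPt_apply _)
      (isTorus_of_has (Red.geomFibre (U.ι z) H) hdim' h1)

/-- **A torus fibre forces a torus nearby.** -/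
theorem exists_nhd_isTorus [IsLocallyNoetherian S] [Flat H.hom] [LocallyOfFinitePresentation H.hom]
    [QuasiCompact H.hom]
    (hconn : ∀ t : S, ConnectedSpace ↥(pullback H.hom (S.fromSpecResidueField t)))
    (haff : ∀ t : S, IsAffine (pullback H.hom (S.fromSpecResidueField t)))
    {s : S} (hs : Red.IsTorus (Red.bc (S.fromSpecResidueField s) H)) :
    ∃ U : S.Opens, s ∈ U ∧ Red.IsTorus (Red.bc U.ι H) := by
  obtain ⟨U₁, hs₁, hsm⟩ := exists_smooth_nhd hs
  let T : Scheme.{u} := U₁
  let H' : Over T := Red.bc U₁.ι H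
  haveI : Smooth H'.hom := hsm
  haveI : IsLocallyNoetherian T := isLocallyNoetherian_of_isOpenImmersion U₁.ι
  haveI : QuasiCompact H'.hom := MorphismProperty.pullback_snd (P := @QuasiCompact) _ _ inferInstance
  -- fibres over the open part
  let ρ : ∀ z : T, pullback H'.hom (T.fromSpecResidueField z) ≅
      pullback H.hom (T.fromSpecResidueField z ≫ U₁.ι) := fun z => pullbackLeftPullbackSndIso H.hom U₁.ι _
  let d : ∀ z : T, Spec (T.residueField z) ⟶ Spec (S.residueField (U₁.ι z)) :=
    fun z => Spec.map (U₁.ι.residueFieldMap z)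
  haveI : ∀ z : T, IsIso (d z) := fun z => inferInstanceAs (IsIso (Spec.map (U₁.ι.residueFieldMap z)))
  let τ : ∀ z : T, pullback H.hom (T.fromSpecResidueField z ≫ U₁.ι) ≅
      pullback H.hom (S.fromSpecResidueField (U₁.ι z)) := fun z =>
    pullback.congrHom rfl (Scheme.Hom.SpecMap_residueFieldMap_fromSpecResidueField U₁.ι z).symm ≪≫
      asIso (pullback.map H.hom (d z ≫ S.fromSpecResidueField (U₁.ι z)) H.hom (S.fromSpecResidueField (U₁.ι z))
        (𝟙 _) (d z) (𝟙 _) (by simp) (by simp))
  have hconn' : ∀ z : T, ConnectedSpace ↥(pullback H'.hom (T.fromSpecResidueField z)) := fun z => by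
    haveI := hconn (U₁.ι z)
    let φ := (Scheme.homeoOfIso (ρ z ≪≫ τ z)).symm
    exact φ.surjective.connectedSpace φ.continuous
  have haff' : ∀ z : T, IsAffine (pullback H'.hom (T.fromSpecResidueField z)) := fun z => by
    haveI := haff (U₁.ι z)
    exact IsAffine.of_isIso (ρ z ≪≫ τ z).hom
  haveI : IsSeparated H'.hom := by
    refine (Groth.Agent.S3025.result T H' fun z => ?_).1
    haveI := hconn' z
    have h : H'.hom.base ⁻¹' {z} = Set.range (pullback.fst H'.hom (T.fromSpecResidueField z)) := by
      rw [Scheme.Pullback.range_fst, Scheme.range_fromSpecResidueField]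
    rw [h]
    exact isConnected_range (pullback.fst H'.hom (T.fromSpecResidueField z)).continuous
  have hs' : Red.IsTorus (Red.bc (T.fromSpecResidueField ⟨s, hs₁⟩) H') := by
    obtain ⟨θ, hθ⟩ := RedCharZeroLib.exists_bc_comp (T.fromSpecResidueField ⟨s, hs₁⟩) U₁.ι H
    haveI := hθ
    haveI : IsMonHom θ.symm.hom := inferInstanceAs (IsMonHom θ.inv)
    refine RedRank.isTorus_of_iso θ.symm
      (isTorus_bc_point (K := T.residueField ⟨s, hs₁⟩) hs _ ?_)
    rw [Scheme.Hom.comp_apply]
    exact congrArg U₁.ι (Scheme.fromSpecResidueField_apply _ _)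
  obtain ⟨V, hsV, hV⟩ := exists_nhd_fibres_torus (H := H') hconn' haff' hs'
  refine ⟨U₁.ι ''ᵁ V, ⟨⟨s, hs₁⟩, hsV, rfl⟩, ?_⟩
  let W := U₁.ι ''ᵁ V
  haveI : IsLocallyNoetherian (W : Scheme.{u}) := isLocallyNoetherian_of_isOpenImmersion W.ι
  haveI : Flat (Red.bc W.ι H).hom := MorphismProperty.pullback_snd (P := @Flat) _ _ inferInstance
  haveI : LocallyOfFinitePresentation (Red.bc W.ι H).hom :=
    MorphismProperty.pullback_snd (P := @LocallyOfFinitePresentation) _ _ inferInstance
  haveI : QuasiCompact (Red.bc W.ι H).hom := MorphismProperty.pullback_snd (P := @QuasiCompact) _ _ inferInstance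
  have hfib : ∀ w : (W : Scheme.{u}),
      Red.IsTorus (Red.bc ((W : Scheme.{u}).fromSpecResidueField w) (Red.bc W.ι H)) := fun w => by
    obtain ⟨z, hz, hzw⟩ := w.2
    obtain ⟨θ, hθ⟩ := RedCharZeroLib.exists_bc_comp ((W : Scheme.{u}).fromSpecResidueField w) W.ι H
    haveI := hθ
    haveI : IsMonHom θ.symm.hom := inferInstanceAs (IsMonHom θ.inv)
    obtain ⟨θ', hθ'⟩ := RedCharZeroLib.exists_bc_comp (T.fromSpecResidueField z) U₁.ι H
    haveI := hθ'
    have hz' : Red.IsTorus (Red.bc (S.fromSpecResidueField (U₁.ι z)) H) :=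
      isTorus_fibre_of_point (K := T.residueField z) (T.fromSpecResidueField z ≫ U₁.ι)
        (by rw [Scheme.Hom.comp_apply]; exact congrArg U₁.ι (Scheme.fromSpecResidueField_apply _ _))
        (RedRank.isTorus_of_iso θ' (hV z hz))
    refine RedRank.isTorus_of_iso θ.symm (isTorus_bc_point (K := (W : Scheme.{u}).residueField w) hz' _ ?_)
    rw [Scheme.Hom.comp_apply]
    exact (congrArg W.ι (Scheme.fromSpecResidueField_apply _ _)).trans hzw.symm
  haveI : IsAffineHom (Red.bc W.ι H).hom := isAffineHom_of_torus_fibres hfib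
  exact isTorus_of_affine_of_fibres hfib

end Groth.Agent.TorusFib
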