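import Groth.Agent.TorusFibLib.Normal
import Groth.Agent.FibDimLib.Semicont
import Groth.Agent.MultSubLib.Basic
import Groth.Agent.S12442

/-!
# Generically split groups with torus fibres over normal bases are affine
-/

set_option autoImplicit false
set_option linter.style.haveILetI false
set_option backward.isDefEq.respectTransparency false
set_option backward.isDefEq.respectTransparency.types false
set_option synthInstance.maxHeartbeats 200000
set_option maxHeartbeats 1600000

noncomputable section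

universe u

open CategoryTheory CategoryTheory.Limits MonoidalCategory CartesianMonoidalCategory AlgebraicGeometry
open scoped MonObj

attribute [-instance] CategoryTheory.Hom.commGroup

namespace Groth.Agent.TorusFib

open PowEtCentralLib (adjEquiv)

variable {S : Scheme.{u}} {H : Over S} [GrpObj H]

theorem flat_surjective_of_iso {A B C D : Scheme.{u}} (a : A ⟶ B) (u : B ⟶ C) (c : C ⟶ D) [IsIso a] [IsIso c]
    [Flat u] [Surjective u] : Flat (a ≫ u ≫ c) ∧ Surjective (a ≫ u ≫ c) := ⟨inferInstance, inferInstance⟩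

/-- Powers are flat when the fibres are tori. -/
theorem flat_pow [Flat H.hom] [LocallyOfFinitePresentation H.hom]
    (hfib : ∀ s : S, Red.IsTorus (Red.bc (S.fromSpecResidueField s) H)) {ℓ : ℕ} (hℓ : ℓ ≠ 0) :
    Flat ((𝟙 H) ^ ℓ : H ⟶ H).left := by
  refine AbSchLib.flat_of_geometric_fibres ((𝟙 H) ^ ℓ : H ⟶ H) fun K _ _ ξ => ?_
  obtain ⟨n, e, he⟩ := exists_torus_geom hfib ξ
  haveI := he
  let D := Red.DS (Spec (CommRingCat.of K)) (Fin n → ℤ)
  let φ : (Fin n → ℤ) →+ (Fin n → ℤ) := nsmulAddMonoidHom ℓ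
  have hφ : Function.Injective φ := fun x y h => smul_right_injective (Fin n → ℤ) hℓ h
  obtain ⟨h1, h2⟩ := DSImg.flat_surjective_DSmap (S := Spec (CommRingCat.of K)) hφ
  haveI := h1; haveI := h2
  have hd : ((𝟙 D) ^ ℓ : D ⟶ D) = Red.DSmap _ φ := by
    have e : ∀ k : ℕ, MultSubLib.chars ((𝟙 D) ^ k) = MultSubLib.chars (𝟙 D) ^ k := fun k => by
      induction k with
      | zero => rw [pow_zero, pow_zero, MultSubLib.chars_one]
      | succ k ih => rw [pow_succ, pow_succ, MultSubLib.chars_mul, ih]
    refine MultSubLib.chars_injective ?_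
    rw [e, ← Category.id_comp (Red.DSmap _ φ), DSImg.chars_comp_DSmap]
    refine MonoidHom.ext fun m => ?_
    exact (map_pow (MultSubLib.chars (𝟙 D)) m ℓ).symm
  rw [MultTorus.map_pow_id]
  have hconj : ((𝟙 (Red.bc ξ H)) ^ ℓ : Red.bc ξ H ⟶ Red.bc ξ H) = e.inv ≫ ((𝟙 D) ^ ℓ : D ⟶ D) ≫ e.hom := by
    rw [MultTorus.pow_id_comp e.hom, Iso.inv_hom_id_assoc]
  rw [hconj, hd, Over.comp_left, Over.comp_left]
  haveI : IsIso e.inv.left := inferInstanceAs (IsIso ((Over.forget _).map e.inv))
  haveI : IsIso e.hom.left := inferInstanceAs (IsIso ((Over.forget _).map e.hom))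
  exact (flat_surjective_of_iso _ _ _).1

/-- The main comparison: over a normal base a generically split group with torus fibres is affine. -/
theorem isAffineHom_of_normal [IsIntegral S] [IsLocallyNoetherian S]
    (hnorm : ∀ x : S, IsIntegrallyClosed (S.presheaf.stalk x)) [Flat H.hom] [LocallyOfFinitePresentation H.hom]
    [QuasiCompact H.hom] [IsSeparated H.hom]
    (hfib : ∀ s : S, Red.IsTorus (Red.bc (S.fromSpecResidueField s) H))
    {ℓ : ℕ} [Fact ℓ.Prime] (hℓ : ∀ s : S, (ℓ : S.residueField s) ≠ 0) {r : ℕ}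
    (eη : Red.bc (S.fromSpecResidueField (genericPoint S)) H ≅
      Red.bc (S.fromSpecResidueField (genericPoint S)) (Red.DS S (Fin r → ℤ))) [IsMonHom eη.hom] :
    IsAffineHom H.hom := by
  let T := Red.DS S (Fin r → ℤ)
  let xη := S.fromSpecResidueField (genericPoint S)
  haveI hTaff : IsAffineHom T.hom := MultEq.isAffineHom_DS S _
  haveI : LocallyOfFinitePresentation T.hom := MultEq.lfp_DS S _
  haveI : Smooth H.hom := smooth_of_torus_fibres hfib
  obtain ⟨v, hv, hvη⟩ := Groth.Agent.S5282.result hnorm H T inferInstance (connected_of_torus_fibres hfib)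
    (MultSubLib.isMultTypeFT_DS S _) eη.hom
  haveI := hv
  haveI : Mono ((Over.pullback xη).map v) := by rw [hvη]; infer_instance
  have hℓ0 : ℓ ≠ 0 := (Fact.out : ℓ.Prime).ne_zero
  haveI := flat_pow hfib hℓ0
  -- on geometric fibres
  have hgeom : ∀ (K : Type u) [Field K] [IsAlgClosed K] (ξ : Spec (CommRingCat.of K) ⟶ S),
      Flat ((Over.pullback ξ).map v).left ∧ Surjective ((Over.pullback ξ).map v).left := by
    intro K _ _ ξ
    obtain ⟨n, e, he⟩ := exists_torus_geom hfib ξ
    haveI := he
    haveI : IsMonHom (M := Red.bc ξ H) (N := Red.bc ξ T) ((Over.pullback ξ).map v) := DiagRep.isMonHom_bc_map ξ v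
    let w : Red.DS (Spec (CommRingCat.of K)) (Fin n → ℤ) ⟶ Red.DS (Spec (CommRingCat.of K)) (Fin r → ℤ) :=
      e.hom ≫ (Over.pullback ξ).map v ≫ (DSImg.bcDS ξ (Fin r → ℤ)).hom
    haveI : IsMonHom w :=
      inferInstanceAs (IsMonHom (e.hom ≫ (Over.pullback ξ).map v ≫ (DSImg.bcDS ξ (Fin r → ℤ)).hom))
    have hℓK : (ℓ : K) ≠ 0 := by
      intro h0
      refine hℓ (ξ (IsLocalRing.closedPoint K)) ?_
      refine (Scheme.descResidueField (Scheme.stalkClosedPointTo ξ)).hom.injective ?_
      rw [map_natCast, map_zero]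
      exact h0
    have htors : ∀ x : 𝟙_ (Over (Spec (CommRingCat.of K))) ⟶ Red.DS (Spec (CommRingCat.of K)) (Fin n → ℤ),
        x ^ ℓ = 1 → x ≫ w = 1 → x = 1 := by
      intro x hx hxw
      let z := x ≫ e.hom
      have hz : z ≫ (Over.pullback ξ).map v = 1 := by
        rw [← cancel_mono (DSImg.bcDS ξ (Fin r → ℤ)).hom, MonObj.one_comp, Category.assoc, Category.assoc]
        exact hxw
      let y := (adjEquiv (G := H) ξ _).symm z
      have hy : y ^ ℓ = 1 := by
        rw [← map_pow, ← MonObj.pow_comp, hx, MonObj.one_comp, map_one]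
      have hyv : y ≫ v = 1 := by
        refine Eq.trans ?_ (map_one (adjEquiv (G := T) ξ _).symm)
        rw [← hz]
        exact (Adjunction.homEquiv_naturality_right_symm (Over.mapPullbackAdj ξ) z v).symm
      have h1 : z = 1 := (map_eq_one_iff _ (adjEquiv (G := H) ξ _).symm.injective).1
        (torsion_trivial (isUnit_natCast ℓ hℓ) v y hy hyv)
      rw [← cancel_mono e.hom, MonObj.one_comp]
      exact h1
    obtain ⟨φ, hwφ, hφ⟩ := exists_dd_of_torsion hℓK w htors
    have hn : n ≤ r := le_of_red φ hφ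
    have hr : r ≤ n := by
      let s := ξ (IsLocalRing.closedPoint K)
      have h1 := fibreDimAt_one ξ e
      have h2 := fibreDimAt_one xη (eη ≪≫ DSImg.bcDS xη (Fin r → ℤ)).symm
      have ho := FibDimLib.isOpen_fibreDimAt_le (f := H.hom) ((n : ℕ) : WithBot ℕ∞)
      have hsp : (η[H] : 𝟙_ (Over S) ⟶ H).left (xη (IsLocalRing.closedPoint _)) ⤳
          (η[H] : 𝟙_ (Over S) ⟶ H).left s := by
        refine Specializes.map ?_ (η[H] : 𝟙_ (Over S) ⟶ H).left.continuous
        rw [show xη (IsLocalRing.closedPoint (S.residueField (genericPoint S))) = genericPoint S from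
          S.fromSpecResidueField_apply _ _]
        exact (genericPoint_spec S).specializes trivial
      have h3 := hsp.mem_open ho (show _ ∈ {x | FlatMor.fibreDimAt H.hom x ≤ _} from h1.le)
      have h4 : ((r : ℕ) : WithBot ℕ∞) ≤ n := h2.symm.trans_le h3
      exact_mod_cast h4
    obtain rfl : n = r := le_antisymm hn hr
    obtain ⟨h1, h2⟩ := DSImg.flat_surjective_DSmap (S := Spec (CommRingCat.of K)) (injective_of_red φ hφ)
    haveI := h1; haveI := h2
    have hmap : (Over.pullback ξ).map v = e.inv ≫ Red.DSmap _ φ ≫ (DSImg.bcDS ξ _).inv := by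
      rw [← hwφ]
      simp [w]
    haveI : IsIso e.inv.left := inferInstanceAs (IsIso ((Over.forget _).map e.inv))
    haveI : IsIso (DSImg.bcDS ξ (Fin n → ℤ)).inv.left :=
      inferInstanceAs (IsIso ((Over.forget _).map (DSImg.bcDS ξ (Fin n → ℤ)).inv))
    rw [hmap, Over.comp_left, Over.comp_left]
    exact flat_surjective_of_iso _ _ _
  haveI : Flat v.left := AbSchLib.flat_of_geometric_fibres v fun K _ _ ξ => (hgeom K ξ).1
  haveI : LocallyOfFinitePresentation v.left := by
    haveI : LocallyOfFinitePresentation (v.left ≫ T.hom) := by rw [Over.w v]; infer_instance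
    exact Groth.Agent.S12442.lfp_of_comp_lft v.left T.hom
  haveI : Surjective v.left := ⟨fun t => by
    let ξ := Red.geomPt (T.hom t)
    obtain ⟨-, hs⟩ := hgeom _ ξ
    haveI := hs
    obtain ⟨t', ht'⟩ : t ∈ Set.range (pullback.fst T.hom ξ) := by
      rw [Scheme.Pullback.range_fst]
      exact ⟨_, RedRank.geomPt_apply _⟩
    obtain ⟨x, hx⟩ := ((Over.pullback ξ).map v).left.surjective t'
    refine ⟨pullback.fst H.hom ξ x, ?_⟩
    rw [← Scheme.Hom.comp_apply, (PowEtCentralLib.isPullback_map_left ξ v).w, Scheme.Hom.comp_apply]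
    exact (congrArg (pullback.fst T.hom ξ) hx).trans ht'⟩
  -- the kernel
  let P : Over S := pullback v (η[T] : 𝟙_ (Over S) ⟶ T)
  let p : P ⟶ H := pullback.fst _ _
  have sqS := (IsPullback.of_hasPullback v (η[T] : 𝟙_ (Over S) ⟶ T)).map (Over.forget S)
  haveI : IsClosedImmersion p.left :=
    haveI := DSImg.isClosedImmersion_one (G := T)
    MorphismProperty.of_isPullback (P := @IsClosedImmersion) sqS.flip ‹_›
  haveI : Flat P.hom := by
    rw [← Over.w (pullback.snd v (η[T] : 𝟙_ (Over S) ⟶ T))]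
    haveI : Flat (pullback.snd v (η[T] : 𝟙_ (Over S) ⟶ T)).left := MorphismProperty.of_isPullback sqS ‹Flat v.left›
    haveI : Flat (𝟙_ (Over S)).hom := inferInstanceAs (Flat (𝟙 S))
    infer_instance
  haveI : IsSeparated P.hom := by rw [← Over.w p]; infer_instance
  have hpv : p ≫ v = 1 := by
    rw [pullback.condition, Hom.one_def, toUnit_unique (pullback.snd v _) (toUnit _)]
  haveI : Mono v := DSImg.mono_of_forall_eq_one v fun Y y hy => by
    have hl : pullback.lift (f := v) (g := (η[T] : 𝟙_ (Over S) ⟶ T)) y (toUnit Y)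
        (by rw [hy, Hom.one_def]) ≫ p = y := pullback.lift_fst _ _ _
    rw [← hl]
    refine eq_one_of_flat p ⟨pullback.lift 1 (toUnit _) (by rw [MonObj.one_comp, Hom.one_def]),
      pullback.lift_fst _ _ _⟩ (fun Z t z => ?_) _
    refine eq_one_of_map_mono xη v t (z ≫ p) ?_
    rw [Category.assoc, hpv, MonObj.comp_one]
  haveI : Mono v.left := inferInstanceAs (Mono ((Over.forget S).map v))
  haveI : IsOpenImmersion v.left := IsOpenImmersion.of_flat_of_mono v.left
  haveI : IsIso v.left := by
    haveI : Epi v.left.base := (TopCat.epi_iff_surjective _).2 v.left.surjective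
    exact IsOpenImmersion.isIso v.left
  rw [← Over.w v]
  infer_instance

end Groth.Agent.TorusFib
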