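import Groth.Agent.TorusFibLib.Split
import Groth.Agent.TorusFibLib.Split2
import Groth.Agent.S0568
import Groth.Agent.S3025
import Groth.Agent.ChevLib.Main
import Groth.Agent.DescHomLib.MultBC

/-!
# Groups with torus fibres over complete local rings are affine
-/

set_option autoImplicit false
set_option linter.style.haveILetI false
set_option backward.isDefEq.respectTransparency false
set_option backward.isDefEq.respectTransparency.types false
set_option synthInstance.maxHeartbeats 200000
set_option maxHeartbeats 1600000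

noncomputable section

universe u

open CategoryTheory CategoryTheory.Limits MonoidalCategory CartesianMonoidalCategory AlgebraicGeometry
open scoped MonObj

attribute [-instance] CategoryTheory.Hom.commGroup

namespace Groth.Agent.TorusFib

/-- Groups with torus fibres are separated. -/
theorem isSeparated_of_torus_fibres {S : Scheme.{u}} {H : Over S} [GrpObj H] [Flat H.hom]
    [LocallyOfFinitePresentation H.hom]
    (hfib : ∀ s : S, Red.IsTorus (Red.bc (S.fromSpecResidueField s) H)) : IsSeparated H.hom := by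
  haveI : Smooth H.hom := smooth_of_torus_fibres hfib
  refine (Groth.Agent.S3025.result S H fun s => ?_).1
  haveI := connected_of_torus_fibres hfib s
  have h : H.hom.base ⁻¹' {s} = Set.range (pullback.fst H.hom (S.fromSpecResidueField s)) := by
    rw [Scheme.Pullback.range_fst, Scheme.range_fromSpecResidueField]
  rw [h]
  exact isConnected_range (pullback.fst H.hom (S.fromSpecResidueField s)).continuous

theorem fib_bc {S S' : Scheme.{u}} (f : S' ⟶ S) {H : Over S} [GrpObj H]
    (hfib : ∀ s : S, Red.IsTorus (Red.bc (S.fromSpecResidueField s) H)) (z : S') :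
    Red.IsTorus (Red.bc (S'.fromSpecResidueField z) (Red.bc f H)) := by
  obtain ⟨a, ha⟩ := RedCharZeroLib.exists_bc_comp (S'.fromSpecResidueField z) f H
  haveI := ha
  haveI : IsMonHom a.symm.hom := inferInstanceAs (IsMonHom a.inv)
  exact RedRank.isTorus_of_iso a.symm (isTorus_bc_of_fibres hfib _)

/-- A monomorphism from the residue field of the generic point of an affine integral scheme. -/
theorem injective_of_generic {A : Type u} [CommRing A] [IsDomain A] {F : Type u} [Field F]
    (φ : A →+* F) (x : Spec (CommRingCat.of F))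
    (hx : Spec.map (CommRingCat.ofHom φ) x = genericPoint (Spec (CommRingCat.of A))) : Function.Injective φ := by
  rw [RingHom.injective_iff_ker_eq_bot]
  have h1 : x.asIdeal = ⊥ := Or.resolve_right (Ideal.eq_bot_or_top _) x.2.ne_top
  have h2 := congrArg PrimeSpectrum.asIdeal (hx.trans (genericPoint_eq_bot_of_affine (CommRingCat.of A)))
  change Ideal.comap φ x.asIdeal = ⊥ at h2
  rwa [h1, ← RingHom.ker_eq_comap_bot] at h2

variable {R : Type u} [CommRing R] [IsNoetherianRing R] {H : Over (Spec (CommRingCat.of R))} [GrpObj H]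

/-- Over a finite normal extension of a component the group becomes affine. -/
theorem exists_component [Flat H.hom] [LocallyOfFinitePresentation H.hom] [QuasiCompact H.hom]
    (hfib : ∀ s : Spec (CommRingCat.of R), Red.IsTorus (Red.bc ((Spec (CommRingCat.of R)).fromSpecResidueField s) H))
    (hN : CAlg.IsNagata R) {ℓ : ℕ} [Fact ℓ.Prime] (hℓ : IsUnit (ℓ : R)) (p : Ideal R) [p.IsPrime] :
    ∃ (A : Type u) (_ : CommRing A) (φ : R →+* A), φ.Finite ∧
      (∀ q : PrimeSpectrum R, p ≤ q.asIdeal → q ∈ Set.range (PrimeSpectrum.comap φ)) ∧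
      IsAffineHom (pullback.snd H.hom (Spec.map (CommRingCat.ofHom φ))) := by
  let K := FractionRing (R ⧸ p)
  let ξ : Spec (CommRingCat.of K) ⟶ Spec (CommRingCat.of R) :=
    Spec.map (CommRingCat.ofHom ((algebraMap (R ⧸ p) K).comp (Ideal.Quotient.mk p)))
  obtain ⟨L, _, _, _, r, e, he⟩ := exists_finite_split (Red.bc ξ H) (isTorus_bc_of_fibres hfib ξ)
  haveI := he
  letI : Algebra (R ⧸ p) L := ((algebraMap K L).comp (algebraMap (R ⧸ p) K)).toAlgebra
  haveI : IsScalarTower (R ⧸ p) K L := IsScalarTower.of_algebraMap_eq fun _ => rfl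
  haveI hfin : Module.Finite (R ⧸ p) (integralClosure (R ⧸ p) L) := hN.2 p L inferInstance
  let A := integralClosure (R ⧸ p) L
  haveI : IsFractionRing A L := integralClosure.isFractionRing_of_finite_extension K L
  haveI : IsIntegrallyClosed A := integralClosure.isIntegrallyClosedOfFiniteExtension K
  haveI : IsNoetherianRing A := IsNoetherianRing.of_finite (R ⧸ p) A
  let φ : R →+* A := (algebraMap (R ⧸ p) A).comp (Ideal.Quotient.mk p)
  have hφ : φ.Finite :=
    RingHom.Finite.comp (RingHom.finite_algebraMap.2 hfin) (RingHom.Finite.of_surjective _ Ideal.Quotient.mk_surjective)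
  refine ⟨A, inferInstance, φ, hφ, fun q hq => ?_, ?_⟩
  · haveI : Algebra.IsIntegral (R ⧸ p) A := Algebra.IsIntegral.of_finite (R ⧸ p) A
    let q' : PrimeSpectrum (R ⧸ p) := ⟨q.asIdeal.map (Ideal.Quotient.mk p),
      Ideal.map_isPrime_of_surjective Ideal.Quotient.mk_surjective (by rwa [Ideal.mk_ker])⟩
    haveI : q'.asIdeal.IsPrime := q'.2
    have hinj : Function.Injective (algebraMap (R ⧸ p) A) := by
      intro a b h
      have h' := congrArg (algebraMap A L) h
      rw [← IsScalarTower.algebraMap_apply, ← IsScalarTower.algebraMap_apply] at h'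
      exact IsFractionRing.injective (R ⧸ p) K ((algebraMap K L).injective h')
    obtain ⟨Q, -, hQp, hQ⟩ := Ideal.exists_ideal_over_prime_of_isIntegral q'.asIdeal (⊥ : Ideal A)
      (by rw [← RingHom.ker_eq_comap_bot, (RingHom.injective_iff_ker_eq_bot _).1 hinj]; exact bot_le)
    refine ⟨⟨Q, hQp⟩, PrimeSpectrum.ext ?_⟩
    show Ideal.comap φ Q = q.asIdeal
    rw [← Ideal.comap_comap, hQ]
    rw [Ideal.comap_map_of_surjective _ Ideal.Quotient.mk_surjective, ← RingHom.ker_eq_comap_bot, Ideal.mk_ker]
    exact sup_eq_left.2 hq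
  · let f : Spec (CommRingCat.of A) ⟶ Spec (CommRingCat.of R) := Spec.map (CommRingCat.ofHom φ)
    haveI : IsSeparated H.hom := isSeparated_of_torus_fibres hfib
    haveI : Flat (Red.bc f H).hom := MorphismProperty.pullback_snd (P := @Flat) _ _ inferInstance
    haveI : LocallyOfFinitePresentation (Red.bc f H).hom :=
      MorphismProperty.pullback_snd (P := @LocallyOfFinitePresentation) _ _ inferInstance
    haveI : QuasiCompact (Red.bc f H).hom := MorphismProperty.pullback_snd (P := @QuasiCompact) _ _ inferInstance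
    haveI : IsSeparated (Red.bc f H).hom := MorphismProperty.pullback_snd (P := @IsSeparated) _ _ inferInstance
    have hnorm : ∀ x : Spec (CommRingCat.of A), IsIntegrallyClosed ((Spec (CommRingCat.of A)).presheaf.stalk x) :=
      fun x => by
        let e := ((Spec.stalkIso (CommRingCat.of A) x).commRingCatIsoToRingEquiv).symm
        haveI := isIntegrallyClosed_of_isLocalization (Localization.AtPrime x.asIdeal) x.asIdeal.primeCompl
          x.asIdeal.primeCompl_le_nonZeroDivisors
        exact IsIntegrallyClosed.of_equiv e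
    have hℓ' : ∀ s : Spec (CommRingCat.of A), (ℓ : (Spec (CommRingCat.of A)).residueField s) ≠ 0 := fun s h => by
      have hu : IsUnit (ℓ : A) := by simpa using hℓ.map φ
      let ρ : A →+* (Spec (CommRingCat.of A)).residueField s :=
        (Spec.preimage ((Spec (CommRingCat.of A)).fromSpecResidueField s)).hom
      exact (hu.map ρ).ne_zero ((map_natCast ρ ℓ).trans h)
    let gL : Spec (CommRingCat.of L) ⟶ Spec (CommRingCat.of K) :=
      Spec.map (CommRingCat.ofHom (algebraMap K L))
    let xη := (Spec (CommRingCat.of A)).fromSpecResidueField (genericPoint (Spec (CommRingCat.of A)))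
    let F := (Spec (CommRingCat.of A)).residueField (genericPoint (Spec (CommRingCat.of A)))
    let χ : A →+* F := (Spec.preimage xη).hom
    have hχ : Spec.map (CommRingCat.ofHom χ) = xη := Spec.map_preimage _
    have hinj : Function.Injective χ := injective_of_generic χ (IsLocalRing.closedPoint _)
      (by rw [hχ]; exact Scheme.fromSpecResidueField_apply _ _)
    let d : Spec F ⟶ Spec (CommRingCat.of L) := Spec.map (CommRingCat.ofHom (IsFractionRing.lift (K := L) hinj))
    have hd : d ≫ gL ≫ ξ = xη ≫ f := by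
      rw [← hχ]
      simp only [d, gL, ξ, f, ← Spec.map_comp]
      congr 1
      refine CommRingCat.hom_ext (RingHom.ext fun x => ?_)
      show IsFractionRing.lift (K := L) hinj (algebraMap K L (algebraMap (R ⧸ p) K (Ideal.Quotient.mk p x))) =
        χ (φ x)
      rw [show algebraMap K L (algebraMap (R ⧸ p) K (Ideal.Quotient.mk p x)) = algebraMap A L (φ x) from
        IsScalarTower.algebraMap_apply (R ⧸ p) A L (Ideal.Quotient.mk p x)]
      exact IsFractionRing.lift_algebraMap hinj _
    let a : Red.bc xη (Red.bc f H) ≅ Red.bc (xη ≫ f) H := ActBC.bcCompIso xη f H rfl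
    let b : Red.bc d (Red.bc (gL ≫ ξ) H) ≅ Red.bc (xη ≫ f) H := ActBC.bcCompIso d (gL ≫ ξ) H hd
    let c : Red.bc gL (Red.bc ξ H) ≅ Red.bc (gL ≫ ξ) H := ActBC.bcCompIso gL ξ H rfl
    haveI : IsMonHom a.hom := ActBC.bcCompIso_isMonHom _ _ _
    haveI : IsMonHom b.hom := ActBC.bcCompIso_isMonHom _ _ _
    haveI : IsMonHom c.hom := ActBC.bcCompIso_isMonHom _ _ _
    haveI : IsMonHom b.inv := inferInstance
    haveI : IsMonHom c.inv := inferInstance
    haveI : IsMonHom e.inv := inferInstance
    let e' : Red.bc (gL ≫ ξ) H ≅ Red.DS (Spec (CommRingCat.of L)) (Fin r → ℤ) := c.symm ≪≫ e.symm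
    haveI : IsMonHom e'.hom := inferInstanceAs (IsMonHom (c.inv ≫ e.inv))
    haveI : IsMonHom (M := Red.bc d (Red.bc (gL ≫ ξ) H))
        (N := Red.bc d (Red.DS (Spec (CommRingCat.of L)) (Fin r → ℤ))) ((Over.pullback d).map e'.hom) :=
      DiagRep.isMonHom_bc_map d e'.hom
    obtain ⟨δ, hδ⟩ := RedCharZeroLib.exists_DS_bc d (Fin r → ℤ)
    obtain ⟨δ', hδ'⟩ := RedCharZeroLib.exists_DS_bc xη (Fin r → ℤ)
    haveI := hδ; haveI := hδ'
    haveI : IsMonHom δ.inv := inferInstance
    let eη : Red.bc xη (Red.bc f H) ≅ Red.bc xη (Red.DS (Spec (CommRingCat.of A)) (Fin r → ℤ)) :=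
      a ≪≫ b.symm ≪≫ (Over.pullback d).mapIso e' ≪≫ δ.symm ≪≫ δ'
    haveI : IsMonHom eη.hom :=
      inferInstanceAs (IsMonHom (a.hom ≫ b.inv ≫ (Over.pullback d).map e'.hom ≫ δ.inv ≫ δ'.hom))
    exact isAffineHom_of_normal (H := Red.bc f H) hnorm (fun z => fib_bc f hfib z) hℓ' eη

/-- Over a complete local ring the group is affine. -/
theorem isAffineHom_of_complete [IsLocalRing R] [IsAdicComplete (IsLocalRing.maximalIdeal R) R] [Flat H.hom]
    [LocallyOfFinitePresentation H.hom] [QuasiCompact H.hom]
    (hfib : ∀ s : Spec (CommRingCat.of R), Red.IsTorus (Red.bc ((Spec (CommRingCat.of R)).fromSpecResidueField s) H)) :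
    IsAffineHom H.hom := by
  obtain ⟨ℓ, hℓp, hℓ⟩ : ∃ ℓ : ℕ, ℓ.Prime ∧ IsUnit (ℓ : R) := by
    by_cases h : IsUnit (2 : R)
    · exact ⟨2, Nat.prime_two, by exact_mod_cast h⟩
    · refine ⟨3, Nat.prime_three, ?_⟩
      by_contra h3
      have h1 : (3 : R) - 2 ∈ IsLocalRing.maximalIdeal R := sub_mem (by simpa using h3) h
      norm_num at h1
  haveI := Fact.mk hℓp
  let P := minimalPrimes R
  haveI : Finite P := (minimalPrimes.finite_of_isNoetherianRing R).to_subtype
  haveI : ∀ p : P, p.1.IsPrime := fun p => p.2.1.1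
  choose A hA φ hφ hrng haff using fun p : P =>
    exists_component hfib (Groth.Agent.S0568.result R) hℓ p.1
  letI := hA
  let Z : P → Scheme.{u} := fun p => Spec (CommRingCat.of (A p))
  let f : ∐ Z ⟶ Spec (CommRingCat.of R) := Limits.Sigma.desc fun p => Spec.map (CommRingCat.ofHom (φ p))
  have hι : ∀ p, Limits.Sigma.ι Z p ≫ f = Spec.map (CommRingCat.ofHom (φ p)) := fun p => Limits.Sigma.ι_desc _ _
  haveI : IsFinite f := by
    let ψ : R →+* (Π p, A p) := RingHom.pi φ
    have hψ : ψ.Finite := by
      letI : ∀ p, Algebra R (A p) := fun p => (φ p).toAlgebra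
      haveI : ∀ p, Module.Finite R (A p) := fun p => hφ p
      exact RingHom.finite_algebraMap.2 (inferInstance : Module.Finite R (Π p, A p))
    haveI : IsFinite (Spec.map (CommRingCat.ofHom ψ)) := (IsFinite.SpecMap_iff _).2 hψ
    have : f = sigmaSpec (fun p => CommRingCat.of (A p)) ≫ Spec.map (CommRingCat.ofHom ψ) := by
      refine Sigma.hom_ext _ _ fun p => ?_
      rw [hι, ← Category.assoc, ι_sigmaSpec, ← Spec.map_comp]
      rfl
    rw [this]
    infer_instance
  haveI : Surjective f := ⟨fun q => by
    let q' : PrimeSpectrum R := q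
    obtain ⟨p, hp, hpq⟩ := Ideal.exists_minimalPrimes_le (I := ⊥) (J := q'.asIdeal) bot_le
    obtain ⟨z, hz⟩ := hrng ⟨p, hp⟩ q' hpq
    exact ⟨Limits.Sigma.ι Z ⟨p, hp⟩ z, by rw [← Scheme.Hom.comp_apply, hι]; exact hz⟩⟩
  haveI : IsAffineHom (pullback.snd H.hom f) := by
    refine IsZariskiLocalAtTarget.of_openCover (P := @IsAffineHom) (sigmaOpenCover Z) fun p => ?_
    let m : pullback (pullback.snd H.hom f) ((sigmaOpenCover Z).f p) ≅
        pullback H.hom (Spec.map (CommRingCat.ofHom (φ p))) :=
      pullbackLeftPullbackSndIso H.hom f _ ≪≫ pullback.congrHom rfl (hι p)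
    haveI := haff p
    have : pullback.snd (pullback.snd H.hom f) ((sigmaOpenCover Z).f p) =
        m.hom ≫ pullback.snd H.hom (Spec.map (CommRingCat.ofHom (φ p))) := by
      simp [m]
      exact (pullbackLeftPullbackSndIso_hom_snd H.hom f _).symm
    show IsAffineHom (pullback.snd (pullback.snd H.hom f) ((sigmaOpenCover Z).f p))
    rw [this]
    infer_instance
  haveI : IsAffine (pullback H.hom f) := isAffine_of_isAffineHom (pullback.snd H.hom f)
  haveI : Surjective (pullback.fst H.hom f) := MorphismProperty.pullback_fst (P := @Surjective) _ _ inferInstance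
  haveI : UniversallyClosed (pullback.fst H.hom f) :=
    MorphismProperty.pullback_fst (P := @UniversallyClosed) _ _ inferInstance
  haveI : IsAffine H.left := ChevLib.isAffine_of_surjective_universallyClosed (pullback.fst H.hom f)
  exact isAffineHom_of_isAffine _

end Groth.Agent.TorusFib
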