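import Groth.Agent.BorelLib.TorScheme
import Groth.Agent.BorelLib.Borel
import Groth.Agent.BorelLib.Tori
import Groth.Agent.RedRankLib.Tori
import Groth.Agent.RedRankLib.Open
import Groth.Agent.S0348
import Groth.Agent.AlgSpLib.ReducedSmooth
import Groth.Agent.S10830

/-!
# Connected groups with many commuting torsion points are tori
-/

set_option autoImplicit false
set_option linter.style.haveILetI false
set_option backward.isDefEq.respectTransparency false
set_option backward.isDefEq.respectTransparency.types false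
set_option synthInstance.maxHeartbeats 200000
set_option maxHeartbeats 800000

noncomputable section

universe u

open CategoryTheory CategoryTheory.Limits MonoidalCategory CartesianMonoidalCategory AlgebraicGeometry WithConv
open scoped MonObj
open CoactBr (sp)

attribute [-instance] CategoryTheory.Hom.commGroup

namespace Groth.Agent.TorusFib

open BorelLib
attribute [local instance] pTop pTopTensor

variable {k : Type u} [Field k] [IsAlgClosed k]

/-- A split torus of rank `d` has at most `m ^ d` points killed by `m`. -/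
theorem card_le_of_lr {d m : ℕ} (hm : 0 < m) {α : Type*} [Fintype α] (f : α → Pt k (Lr k d))
    (hf : Function.Injective f) (h : ∀ a, f a ^ m = 1) : Fintype.card α ≤ m ^ d := by
  classical
  let R := Polynomial.nthRootsFinset m (1 : k)
  let g : α → (Fin d → R) := fun a j => ⟨lrEv (Multiplicative.ofAdd (Pi.single j 1)) (f a), by
    rw [Polynomial.mem_nthRootsFinset hm, ← map_pow, h, map_one]⟩
  have hg : Function.Injective g := by
    intro a b hab
    refine hf (lr_ext fun n => ?_)
    let χa : Multiplicative (Fin d → ℤ) →* k :=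
      { toFun := fun n => lrEv n (f a), map_one' := map_one ((f a).ofConv),
        map_mul' := fun x y => by
          show (f a).ofConv _ = (f a).ofConv _ * (f a).ofConv _
          rw [← map_mul, MonoidAlgebra.single_mul_single, mul_one] }
    let χb : Multiplicative (Fin d → ℤ) →* k :=
      { toFun := fun n => lrEv n (f b), map_one' := map_one ((f b).ofConv),
        map_mul' := fun x y => by
          show (f b).ofConv _ = (f b).ofConv _ * (f b).ofConv _
          rw [← map_mul, MonoidAlgebra.single_mul_single, mul_one] }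
    suffices χa = χb from DFunLike.congr_fun this n
    let D : AddSubgroup (Fin d → ℤ) :=
      { carrier := {v | χa (Multiplicative.ofAdd v) = χb (Multiplicative.ofAdd v)}
        zero_mem' := by simp
        add_mem' := fun {v w} hv hw => by
          show χa _ = χb _
          rw [ofAdd_add, map_mul, map_mul, hv, hw]
        neg_mem' := fun {v} hv => by
          show χa _ = χb _
          have ha : χa (Multiplicative.ofAdd (-v)) * χa (Multiplicative.ofAdd v) = 1 := by
            rw [← map_mul, ← ofAdd_add, neg_add_cancel, ofAdd_zero, map_one]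
          have hb : χb (Multiplicative.ofAdd (-v)) * χb (Multiplicative.ofAdd v) = 1 := by
            rw [← map_mul, ← ofAdd_add, neg_add_cancel, ofAdd_zero, map_one]
          rw [show χa (Multiplicative.ofAdd v) = χb (Multiplicative.ofAdd v) from hv] at ha
          exact mul_right_cancel₀ (fun h0 => by simp [h0] at hb) (ha.trans hb.symm) }
    refine MonoidHom.ext fun n => ?_
    have hn : n.toAdd ∈ D := by
      rw [show n.toAdd = ∑ j, n.toAdd j • Pi.single j (1 : ℤ) by ext j; simp [Finset.sum_apply, Pi.single_apply]]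
      exact sum_mem fun j _ => zsmul_mem (show _ ∈ D from congrArg Subtype.val (congrFun hab j)) _
    exact hn
  refine (Fintype.card_le_of_injective g hg).trans ?_
  rw [Fintype.card_fun, Fintype.card_fin, Fintype.card_coe]
  exact Nat.pow_le_pow_left ((Multiset.toFinset_card_le _).trans (Polynomial.card_nthRoots m (1 : k))) d

/-- A connected group of dimension `r` with compatible commuting families of `ℓ`-power torsion points of
rank `r` is a torus. -/
theorem isTorus_of_torsion (G : Over (Spec (CommRingCat.of k))) [GrpObj G] [Smooth G.hom] [IsAffine G.left]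
    [ConnectedSpace G.left] {r : ℕ} (hdim : topologicalKrullDim G.left = r) {ℓ : ℕ} [Fact ℓ.Prime] (hℓ : (ℓ : k) ≠ 0)
    (ψ : ∀ N : ℕ, Multiplicative (Fin r → ZMod (ℓ ^ N)) →* RPt G) (hinj : ∀ N, Function.Injective (ψ N))
    (hc : ∀ N M a b, Commute (ψ N a) (ψ M b)) : Red.IsTorus G := by
  classical
  obtain ⟨A, _, _, v, hv, hft, hred⟩ := exists_setup G
  haveI := hv; haveI := hft
  haveI := noetherianSpace (k := k) (R := A)
  have hℓp : ℓ.Prime := Fact.out
  haveI : ∀ N, NeZero (ℓ ^ N) := fun N => ⟨(pow_pos hℓp.pos N).ne'⟩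
  let φ : ∀ N : ℕ, Multiplicative (Fin r → ZMod (ℓ ^ N)) →* Pt k A := fun N => (ptEquiv v).symm.toMonoidHom.comp (ψ N)
  have hφ : ∀ N, Function.Injective (φ N) := fun N => (ptEquiv v).symm.injective.comp (hinj N)
  let Γ : Set (Pt k A) := ⋃ N, Set.range (φ N)
  let E := Subgroup.closure Γ
  have hΓ : ∀ x ∈ Γ, ∀ y ∈ Γ, x * y = y * x := by
    intro x hx y hy
    obtain ⟨N, a, rfl⟩ := Set.mem_iUnion.1 hx
    obtain ⟨M, b, rfl⟩ := Set.mem_iUnion.1 hy
    exact ((hc N M a b).map (ptEquiv v).symm.toMonoidHom).eq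
  have hEc : ∀ x ∈ E, ∀ y ∈ E, x * y = y * x := by
    haveI := Subgroup.isMulCommutative_closure (k := Γ) hΓ
    intro x hx y hy
    exact congrArg Subtype.val ((IsMulCommutative.is_comm (M := E)).comm ⟨x, hx⟩ ⟨y, hy⟩)
  have hEPT : ∀ x ∈ E, IsPT x := by
    intro x hx
    induction hx using Subgroup.closure_induction with
    | mem x hx =>
      obtain ⟨N, a, rfl⟩ := Set.mem_iUnion.1 hx
      refine ⟨ℓ ^ N, by rw [Nat.cast_pow]; exact pow_ne_zero _ hℓ, ?_⟩
      rw [← map_pow, show a ^ (ℓ ^ N) = 1 from Multiplicative.toAdd.injective (by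
        rw [toAdd_pow, toAdd_one]; funext j; simp), map_one]
    | one => exact IsPT.one
    | mul x y hx hy ihx ihy => exact ihx.mul ihy (hEc x hx y hy)
    | inv x _ ih => exact ih.inv
  let P := clSub E
  have hPcl : IsClosed (P : Set (Pt k A)) := isClosed_clSub E
  have hPc : ∀ a ∈ P, ∀ b ∈ P, a * b = b * a := by
    have hstep : ∀ y : Pt k A, (∀ x ∈ E, y * x = x * y) → ∀ x ∈ P, y * x = x * y := fun y hy x hx =>
      closure_minimal hy (isClosed_commuting y) hx
    intro a ha b hb
    exact hstep a (fun x hx => (hstep x (fun z hz => hEc x hx z hz) a ha).symm) b hb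
  obtain ⟨F, hFP, hF⟩ := exists_neut_cosets hPcl
  let S := neut P
  have hS : IsTor S := by
    refine ⟨isClosed_neut hPcl, isPreconnected_neut P, fun a ha b hb => hPc a (neut_le P ha) b (neut_le P hb), ?_⟩
    intro x hx
    let C : Set (Pt k A) := ⋃ f ∈ F.filter fun f => f ∉ S, (f * ·) '' (S : Set (Pt k A))
    have hC : IsClosed C := by
      refine Set.Finite.isClosed_biUnion (Finset.finite_toSet _) fun f _ => ?_
      have : (f * ·) '' (S : Set (Pt k A)) = (f⁻¹ * ·) ⁻¹' (S : Set (Pt k A)) :=
        Set.ext fun y => ⟨by rintro ⟨s, hs, rfl⟩; simpa using hs, fun hy => ⟨_, hy, mul_inv_cancel_left f y⟩⟩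
      rw [this]
      exact (isClosed_neut hPcl).preimage (continuous_const_mul f⁻¹)
    have hxC : x ∉ C := by
      intro hxC
      simp only [C, Set.mem_iUnion, Finset.mem_filter] at hxC
      obtain ⟨f, ⟨-, hfS⟩, s, hs, rfl⟩ := hxC
      exact hfS (by simpa using S.mul_mem hx (S.inv_mem hs))
    refine mem_closure_iff.2 fun O hO hxO => ?_
    obtain ⟨y, ⟨hyO, hyC⟩, hyE⟩ := mem_closure_iff.1 (neut_le P hx : x ∈ P) (O \ C) (hO.sdiff hC) ⟨hxO, hxC⟩
    refine ⟨y, hyO, ?_, hEPT y hyE⟩
    obtain ⟨f, hf, hfy⟩ := hF y (le_clSub E hyE)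
    by_contra hy
    refine hyC (Set.mem_biUnion (x := f) ?_ ⟨_, hfy, mul_inv_cancel_left f y⟩)
    exact Finset.mem_filter.2 ⟨hf, fun hfS => hy (by simpa using S.mul_mem hfS hfy)⟩
  -- a uniform exponent
  let c := F.card.factorial
  have hpow : ∀ g ∈ P, g ^ c ∈ S := by
    intro g hg
    have hcm : ∀ i ∈ Finset.range (F.card + 1), ∃ f ∈ F, f⁻¹ * g ^ i ∈ S := fun i _ => hF _ (P.pow_mem hg i)
    choose f hfF hfS using hcm
    obtain ⟨i, hi, j, hj, hij, hfij⟩ := Finset.exists_ne_map_eq_of_card_lt_of_maps_to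
      (s := (Finset.range (F.card + 1)).attach) (t := F) (f := fun i => f i.1 i.2)
      (by simp) (fun i _ => hfF i.1 i.2)
    have key : ∀ {i j : ℕ} (hi : i ∈ Finset.range (F.card + 1)) (hj : j ∈ Finset.range (F.card + 1)), i < j →
        f i hi = f j hj → g ^ c ∈ S := by
      intro i j hi hj hlt he
      have h1 : (g ^ i)⁻¹ * g ^ j ∈ S := by
        have := S.mul_mem (S.inv_mem (hfS i hi)) (hfS j hj)
        rw [he] at this
        simpa [mul_assoc] using this
      have h2 : g ^ (j - i) ∈ S := by
        have e : g ^ j = g ^ i * g ^ (j - i) := by rw [← pow_add, Nat.add_sub_cancel' hlt.le]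
        rwa [e, inv_mul_cancel_left] at h1
      obtain ⟨q, hq⟩ : j - i ∣ c := Nat.dvd_factorial (by omega) (by rw [Finset.mem_range] at hj; omega)
      rw [hq, pow_mul]
      exact S.pow_mem h2 q
    rcases lt_or_gt_of_ne (fun h => hij (Subtype.ext h)) with h | h
    · exact key i.2 j.2 h hfij
    · exact key j.2 i.2 h hfij.symm
  obtain ⟨T, _, iT, hiT, hmono, hcl, hT, _, hpts⟩ := exists_torus_sub v hS
  haveI := hiT; haveI := hcl
  obtain ⟨d, w, hw, -, -, hirr, -, -⟩ := torus_facts hT
  haveI := hw; haveI := hirr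
  obtain ⟨χ, f, hf, hrange, hsur⟩ := exists_hom_pull v w iT
  have hfinj : Function.Injective f := by
    rw [show (f : Pt k (Lr k d) → Pt k A) = pull χ from funext hf]
    exact pull_injective_of_surjective (hsur hcl)
  -- counting points killed by ℓ
  have hrd : r ≤ d := by
    obtain ⟨v₀, c', hc', hcv⟩ := Nat.exists_eq_pow_mul_and_not_dvd (Nat.factorial_ne_zero F.card) ℓ hℓp.ne_one
    let e : (Fin r → ZMod ℓ) → Multiplicative (Fin r → ZMod (ℓ ^ (v₀ + 1))) := fun a =>
      Multiplicative.ofAdd fun j => ((a j).val : ZMod (ℓ ^ (v₀ + 1)))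
    have hex : ∀ a, ∃ x : Pt k (Lr k d), f x = φ (v₀ + 1) (e a) ^ c := fun a => by
      have h1 : φ (v₀ + 1) (e a) ∈ P := le_clSub E (Subgroup.subset_closure (Set.mem_iUnion.2 ⟨_, e a, rfl⟩))
      have h2 := hpow _ h1
      rw [← hpts, ← hrange] at h2
      exact h2
    choose x hx using hex
    have hxinj : Function.Injective x := by
      intro a b hab
      have h0 := hx a
      rw [hab, hx b, ← map_pow (φ (v₀ + 1)), ← map_pow (φ (v₀ + 1))] at h0
      have h3 := congrArg Multiplicative.toAdd (hφ _ h0)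
      rw [toAdd_pow, toAdd_pow] at h3
      funext j
      have h4 := congrFun h3 j
      simp only [e, toAdd_ofAdd, Pi.smul_apply, nsmul_eq_mul, ← Nat.cast_mul,
        ZMod.natCast_eq_natCast_iff'] at h4
      rw [show c = ℓ ^ v₀ * c' from hcv, mul_assoc, mul_assoc, pow_succ] at h4
      rw [Nat.mul_mod_mul_left, Nat.mul_mod_mul_left] at h4
      have h5 : ((c' * (b j).val : ℕ) : ZMod ℓ) = ((c' * (a j).val : ℕ) : ZMod ℓ) :=
        (ZMod.natCast_eq_natCast_iff' _ _ _).2 (Nat.eq_of_mul_eq_mul_left (pow_pos hℓp.pos v₀) h4)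
      rw [Nat.cast_mul, Nat.cast_mul, ZMod.natCast_zmod_val, ZMod.natCast_zmod_val] at h5
      refine (mul_left_cancel₀ (fun h6 => hc' ?_) h5).symm
      exact (ZMod.natCast_eq_zero_iff _ _).1 h6
    have hxpow : ∀ a, x a ^ ℓ = 1 := fun a => hfinj (by
      rw [map_pow, hx, map_one, ← pow_mul, ← map_pow, show e a ^ (c * ℓ) = 1 from ?_, map_one]
      refine Multiplicative.toAdd.injective ?_
      rw [toAdd_pow, toAdd_one]
      funext j
      rw [Pi.smul_apply, Pi.zero_apply, nsmul_eq_mul,
        show ((c * ℓ : ℕ) : ZMod (ℓ ^ (v₀ + 1))) = ((ℓ ^ (v₀ + 1) * c' : ℕ) : ZMod (ℓ ^ (v₀ + 1))) by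
          rw [show c = ℓ ^ v₀ * c' from hcv]; congr 1; ring,
        Nat.cast_mul, ZMod.natCast_self, zero_mul, zero_mul])
    have hcard := card_le_of_lr hℓp.pos x hxinj hxpow
    rw [Fintype.card_fun, Fintype.card_fin, ZMod.card] at hcard
    exact (Nat.pow_le_pow_iff_right hℓp.one_lt).1 hcard
  -- the subtorus is everything
  haveI : IrreducibleSpace G.left := Groth.Agent.S0348.result k G
  haveI : Surjective iT.left := ⟨fun y => by
    by_contra hy
    have hlt := Groth.Agent.S10830.result G.left (by rw [hdim]; exact ne_of_lt (WithBot.coe_lt_coe.2 (ENat.natCast_lt_top r)))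
      (Set.range iT.left) iT.left.isClosedEmbedding.isClosed_range fun h => hy (h.ge (Set.mem_univ y))
    let a := iT.left.isClosedEmbedding.isEmbedding.toHomeomorph
    obtain ⟨u, hu, hu'⟩ := TorusField.exists_DS_iso k (Fin d → ℤ)
    let b : ↥(sp k (Lr k d)).left ≃ₜ ↥T.left := Scheme.homeoOfIso ((Over.forget _).mapIso w)
    rw [← IsHomeomorph.topologicalKrullDim_eq a a.isHomeomorph, ← IsHomeomorph.topologicalKrullDim_eq b b.isHomeomorph,
      hdim] at hlt
    rw [show topologicalKrullDim ↥(sp k (Lr k d)).left = d from RedRank.topologicalKrullDim_sp_TA (K := k) d] at hlt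
    exact absurd (show d < r by exact_mod_cast hlt) (not_lt.2 hrd)⟩
  haveI : AlgebraicGeometry.IsReduced G.left := AlgSpLib.isReduced_of_smooth G.hom
  haveI : IsIso iT.left := isIso_of_isClosedImmersion_of_surjective iT.left
  haveI : IsIso iT := by
    haveI : IsIso ((Over.forget _).map iT) := ‹IsIso iT.left›
    exact isIso_of_reflects_iso iT (Over.forget _)
  haveI : IsMonHom (asIso iT).hom := inferInstanceAs (IsMonHom iT)
  haveI : IsMonHom (asIso iT).symm.hom := inferInstanceAs (IsMonHom (asIso iT).inv)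
  exact RedRank.isTorus_of_iso (asIso iT).symm hT

end Groth.Agent.TorusFib
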