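import Groth.Agent.TorusFibLib.Section
import Groth.Agent.RedRankLib.Tori
import Groth.Agent.RedRankLib.Open
import Groth.Agent.RedRankLib.CommRel
import Groth.Agent.TorusLiftLib.Smooth
import Groth.Agent.BorelLib.CentralPreimageRel
import Groth.Agent.RedCharZeroLib.TorusSplit

/-!
# Groups all of whose fibres are tori
-/

set_option autoImplicit false
set_option linter.style.haveILetI false
set_option backward.isDefEq.respectTransparency false
set_option backward.isDefEq.respectTransparency.types false
set_option synthInstance.maxHeartbeats 200000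
set_option maxHeartbeats 800000

noncomputable section

universe u

open CategoryTheory CategoryTheory.Limits MonoidalCategory CartesianMonoidalCategory AlgebraicGeometry
open scoped MonObj

attribute [-instance] CategoryTheory.Hom.commGroup

namespace Groth.Agent.TorusFib

open RedRank (TA)
open CoactBr
attribute [local instance] CoactBr.braidedAlgSpecOf

variable {S : Scheme.{u}} {H : Over S} [GrpObj H]

theorem isTorus_bc_of_fibres (hfib : ∀ s : S, Red.IsTorus (Red.bc (S.fromSpecResidueField s) H))
    {K : Type u} [Field K] (ξ : Spec (CommRingCat.of K) ⟶ S) : Red.IsTorus (Red.bc ξ H) := by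
  let t := ξ (IsLocalRing.closedPoint K)
  let d := Spec.map (Scheme.descResidueField (Scheme.stalkClosedPointTo ξ))
  have hd : d ≫ S.fromSpecResidueField t = ξ := Scheme.descResidueField_stalkClosedPointTo_fromSpecResidueField K S ξ
  rw [← hd]
  obtain ⟨θ, hθ⟩ := RedCharZeroLib.exists_bc_comp d (S.fromSpecResidueField t) H
  haveI := hθ
  exact RedRank.isTorus_of_iso θ (RedRank.isTorus_bc (hfib t) d)

theorem exists_torus_geom (hfib : ∀ s : S, Red.IsTorus (Red.bc (S.fromSpecResidueField s) H))
    {K : Type u} [Field K] [IsAlgClosed K] (ξ : Spec (CommRingCat.of K) ⟶ S) :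
    ∃ (n : ℕ) (e : Red.DS (Spec (CommRingCat.of K)) (Fin n → ℤ) ≅ Red.bc ξ H), IsMonHom e.hom := by
  obtain ⟨n, v, hv, hv', -⟩ := RedRank.exists_torus_rank (isTorus_bc_of_fibres hfib ξ)
  obtain ⟨w, hw, hw'⟩ := TorusField.exists_DS_iso K (Fin n → ℤ)
  haveI := hv; haveI := hv'; haveI := hw; haveI := hw'
  exact ⟨n, w.symm ≪≫ v, inferInstanceAs (IsMonHom (w.inv ≫ v.hom))⟩

theorem irreducibleSpace_of_homeomorph {X Y : Type*} [TopologicalSpace X] [TopologicalSpace Y] [IrreducibleSpace X]
    (e : X ≃ₜ Y) : IrreducibleSpace Y := by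
  rw [irreducibleSpace_def, Set.top_eq_univ, ← e.surjective.range_eq, ← Set.image_univ]
  exact (IrreducibleSpace.isIrreducible_univ X).image e e.continuous.continuousOn

/-- Split tori over fields are irreducible of dimension their rank. -/
theorem irreducible_DS (K : Type u) [Field K] (n : ℕ) :
    IrreducibleSpace ↥(Red.DS (Spec (CommRingCat.of K)) (Fin n → ℤ)).left ∧
      topologicalKrullDim ↥(Red.DS (Spec (CommRingCat.of K)) (Fin n → ℤ)).left = n := by
  obtain ⟨w, hw, hw'⟩ := TorusField.exists_DS_iso K (Fin n → ℤ)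
  let e : ↥(sp K (TA K n)).left ≃ₜ ↥(Red.DS (Spec (CommRingCat.of K)) (Fin n → ℤ)).left :=
    Scheme.homeoOfIso ((Over.forget _).mapIso w)
  haveI : IsDomain (TA K n) := NoZeroDivisors.to_isDomain _
  haveI : IrreducibleSpace ↥(sp K (TA K n)).left := inferInstanceAs (IrreducibleSpace (PrimeSpectrum (TA K n)))
  refine ⟨irreducibleSpace_of_homeomorph e, ?_⟩
  rw [← RedRank.topologicalKrullDim_sp_TA (K := K) n]
  exact (IsHomeomorph.topologicalKrullDim_eq e e.isHomeomorph).symm

theorem fibreDimAt_one [LocallyOfFiniteType H.hom] {K : Type u} [Field K] (ξ : Spec (CommRingCat.of K) ⟶ S) {n : ℕ}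
    (e : Red.DS (Spec (CommRingCat.of K)) (Fin n → ℤ) ≅ Red.bc ξ H) :
    FlatMor.fibreDimAt H.hom ((η[H] : 𝟙_ (Over S) ⟶ H).left (ξ (IsLocalRing.closedPoint K))) = n := by
  obtain ⟨hirr, hdim⟩ := irreducible_DS K n
  haveI := hirr
  let h : ↥(Red.DS (Spec (CommRingCat.of K)) (Fin n → ℤ)).left ≃ₜ ↥(pullback H.hom ξ) :=
    Scheme.homeoOfIso ((Over.forget _).mapIso e)
  haveI : IrreducibleSpace ↥(pullback H.hom ξ) := irreducibleSpace_of_homeomorph h
  let z : Spec (CommRingCat.of K) ⟶ pullback H.hom ξ :=
    pullback.lift (ξ ≫ (η[H] : 𝟙_ (Over S) ⟶ H).left) (𝟙 _) (by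
      have h1 : (η[H] : 𝟙_ (Over S) ⟶ H).left ≫ H.hom = 𝟙 S := Over.w _
      rw [Category.assoc, h1, Category.comp_id, Category.id_comp])
  have hz : pullback.fst H.hom ξ (z (IsLocalRing.closedPoint K)) =
      (η[H] : 𝟙_ (Over S) ⟶ H).left (ξ (IsLocalRing.closedPoint K)) := by
    rw [← Scheme.Hom.comp_apply, pullback.lift_fst]
    rfl
  rw [← hz, fibreDimAt_of_irreducible ξ H.hom, ← hdim]
  exact (IsHomeomorph.topologicalKrullDim_eq h h.isHomeomorph).symm

theorem smooth_of_torus_fibres [Flat H.hom] [LocallyOfFinitePresentation H.hom]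
    (hfib : ∀ s : S, Red.IsTorus (Red.bc (S.fromSpecResidueField s) H)) : Smooth H.hom :=
  BorelLib.CentPre.smooth_of_geom_fibres H fun s =>
    TorusLift.smooth_of_isTorus (isTorus_bc_of_fibres hfib (Red.geomPt s))

theorem connected_of_torus_fibres (hfib : ∀ s : S, Red.IsTorus (Red.bc (S.fromSpecResidueField s) H)) (s : S) :
    ConnectedSpace ↥(pullback H.hom (S.fromSpecResidueField s)) := by
  let d := Spec.map (CommRingCat.ofHom (algebraMap (S.residueField s) (AlgebraicClosure (S.residueField s))))
  obtain ⟨n, e, -⟩ := exists_torus_geom hfib (d ≫ S.fromSpecResidueField s)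
  obtain ⟨hirr, -⟩ := irreducible_DS (AlgebraicClosure (S.residueField s)) n
  haveI := hirr
  let h : ↥(Red.DS (Spec (CommRingCat.of (AlgebraicClosure (S.residueField s)))) (Fin n → ℤ)).left ≃ₜ
      ↥(pullback H.hom (d ≫ S.fromSpecResidueField s)) := Scheme.homeoOfIso ((Over.forget _).mapIso e)
  haveI : IrreducibleSpace ↥(pullback H.hom (d ≫ S.fromSpecResidueField s)) := irreducibleSpace_of_homeomorph h
  let p : pullback H.hom (d ≫ S.fromSpecResidueField s) ⟶ pullback H.hom (S.fromSpecResidueField s) :=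
    pullback.lift (pullback.fst _ _) (pullback.snd _ _ ≫ d) (by rw [Category.assoc]; exact pullback.condition)
  have sq : IsPullback p (pullback.snd _ _) (pullback.snd H.hom (S.fromSpecResidueField s)) d :=
    IsPullback.of_right (by
      rw [show p ≫ pullback.fst H.hom (S.fromSpecResidueField s) = pullback.fst _ _ from pullback.lift_fst _ _ _]
      exact IsPullback.of_hasPullback H.hom (d ≫ S.fromSpecResidueField s)) (pullback.lift_snd _ _ _)
      (IsPullback.of_hasPullback H.hom (S.fromSpecResidueField s))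
  haveI : Surjective d := ⟨fun y => ⟨IsLocalRing.closedPoint _, Subsingleton.elim (α := ↥(Spec (CommRingCat.of (S.residueField s)))) _ _⟩⟩
  haveI : Surjective p := MorphismProperty.of_isPullback sq.flip ‹Surjective d›
  exact Function.Surjective.connectedSpace p.surjective p.continuous

end Groth.Agent.TorusFib
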