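import Groth.Agent.TorusFibLib.Field
import Groth.Agent.TorusFibLib.Geom
import Groth.Agent.PowEtCentralLib.Lift
import Groth.Agent.SubmDescLib.Sections
import Groth.Agent.MultSubLib.Chars
import Groth.Agent.EtLocLib.Algebra

/-!
# Lifting torsion points from a torus over the closed point of a strictly henselian base
-/

set_option autoImplicit false
set_option linter.style.haveILetI false
set_option backward.isDefEq.respectTransparency false
set_option backward.isDefEq.respectTransparency.types false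
set_option synthInstance.maxHeartbeats 200000
set_option maxHeartbeats 800000

noncomputable section

universe u

open CategoryTheory CategoryTheory.Limits MonoidalCategory CartesianMonoidalCategory AlgebraicGeometry
open scoped MonObj

attribute [-instance] CategoryTheory.Hom.commGroup

namespace Groth.Agent.TorusFib

open PowEtCentralLib (adjEquiv)

/-- Restriction of sections along a morphism to the base. -/
def rho {T S : Scheme.{u}} (c : T ⟶ S) (H : Over S) [GrpObj H] :
    (𝟙_ (Over S) ⟶ H) →* (𝟙_ (Over T) ⟶ Red.bc c H) :=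
  MonoidHom.mk' (fun x => adjEquiv c _ (toUnit ((Over.map c).obj (𝟙_ (Over T))) ≫ x))
    fun x y => by rw [MonObj.comp_mul, map_mul]

theorem rho_left_fst {T S : Scheme.{u}} (c : T ⟶ S) {H : Over S} [GrpObj H] (x : 𝟙_ (Over S) ⟶ H) :
    (rho c H x).left ≫ pullback.fst H.hom c = c ≫ x.left := by
  have h1 := congrArg Over.Hom.left (((Over.mapPullbackAdj c).homEquiv _ H).symm_apply_apply
    (toUnit ((Over.map c).obj (𝟙_ (Over T))) ≫ x))
  rw [Adjunction.homEquiv_counit] at h1
  refine h1.trans ?_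
  show (toUnit ((Over.map c).obj (𝟙_ (Over T)))).left ≫ x.left = c ≫ x.left
  congr 1

theorem rho_eq_iff {T S : Scheme.{u}} (c : T ⟶ S) {H : Over S} [GrpObj H] (x y : 𝟙_ (Over S) ⟶ H) :
    rho c H x = rho c H y ↔ c ≫ x.left = c ≫ y.left := by
  refine ⟨fun h => by rw [← rho_left_fst, ← rho_left_fst, h], fun h => ?_⟩
  refine Over.OverMorphism.ext (pullback.hom_ext ?_ ?_)
  · rw [rho_left_fst, rho_left_fst, h]
  · exact (Over.w (rho c H x)).trans (Over.w (rho c H y)).symm

theorem mul_comm_DS {T : Scheme.{u}} {r : ℕ} {Y : Over T} (x y : Y ⟶ Red.DS T (Fin r → ℤ)) : x * y = y * x :=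
  MultSubLib.chars_injective (by rw [MultSubLib.chars_mul, MultSubLib.chars_mul, mul_comm])

theorem mul_comm_of_iso {T : Scheme.{u}} {G : Over T} [GrpObj G] {r : ℕ} (e : Red.DS T (Fin r → ℤ) ≅ G)
    [IsMonHom e.hom] {Y : Over T} (x y : Y ⟶ G) : x * y = y * x := by
  calc x * y = ((x ≫ e.inv) * (y ≫ e.inv)) ≫ e.hom := by rw [MonObj.mul_comp]; simp
    _ = ((y ≫ e.inv) * (x ≫ e.inv)) ≫ e.hom := by rw [mul_comm_DS]
    _ = y * x := by rw [MonObj.mul_comp]; simp

/-- The torsion points of a split torus over an algebraically closed field. -/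
theorem exists_torsion_family {k : Type u} [Field k] [IsAlgClosed k] (r M : ℕ) [NeZero M] (hM : (M : k) ≠ 0) :
    ∃ f : Multiplicative (Fin r → ZMod M) →* (𝟙_ (Over (Spec (CommRingCat.of k))) ⟶
        Red.DS (Spec (CommRingCat.of k)) (Fin r → ℤ)), Function.Injective f := by
  classical
  haveI : NeZero (M : k) := ⟨hM⟩
  obtain ⟨ζ, hζ⟩ := HasEnoughRootsOfUnity.exists_primitiveRoot k M
  let χ₀ := AddChar.zmodChar M hζ.pow_eq_one
  let g := (Scheme.ΓSpecIso (CommRingCat.of k)).inv.hom
  let L : (Fin r → ZMod M) → (Fin r → ℤ) →+ ZMod M := fun a =>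
    { toFun := fun m => ∑ j, a j * (m j : ZMod M)
      map_zero' := by simp
      map_add' := fun m m' => by simp [mul_add, Finset.sum_add_distrib] }
  let χ : (Fin r → ZMod M) → Multiplicative (Fin r → ℤ) →*
      Γ((𝟙_ (Over (Spec (CommRingCat.of k)))).left, ⊤) := fun a =>
    g.toMonoidHom.comp (χ₀.toMonoidHom.comp (L a).toMultiplicative)
  have hmul : ∀ a b, χ (a + b) = χ a * χ b := fun a b => MonoidHom.ext fun m => by
    show g (χ₀ (L (a + b) m.toAdd)) = g (χ₀ (L a m.toAdd)) * g (χ₀ (L b m.toAdd))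
    rw [← map_mul, ← AddChar.map_add_eq_mul]
    congr 2
    show ∑ j, (a + b) j * _ = ∑ j, a j * _ + ∑ j, b j * _
    simp [add_mul, Finset.sum_add_distrib]
  refine ⟨MonoidHom.mk' (fun a => DSPtsLib.dsPt (χ a.toAdd)) fun a b => MultSubLib.chars_injective (by
    rw [MultSubLib.chars_dsPt, MultSubLib.chars_mul, MultSubLib.chars_dsPt, MultSubLib.chars_dsPt, toAdd_mul,
      hmul]), fun a b hab => Multiplicative.toAdd.injective (funext fun j => ?_)⟩
  have h := congrArg MultSubLib.chars hab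
  simp only [MonoidHom.mk'_apply, MultSubLib.chars_dsPt] at h
  have h' : g (χ₀ (L a.toAdd (Pi.single j 1))) = g (χ₀ (L b.toAdd (Pi.single j 1))) :=
    DFunLike.congr_fun h (Multiplicative.ofAdd (Pi.single j 1))
  have hL : ∀ c, L c (Pi.single j 1) = c j := fun c => by
    show ∑ i, c i * (((Pi.single j (1 : ℤ) : Fin r → ℤ) i : ℤ) : ZMod M) = c j
    rw [Finset.sum_eq_single j (fun i _ hi => by simp [hi]) (by simp)]
    simp
  rw [hL, hL] at h'
  have h1 := (Scheme.ΓSpecIso (CommRingCat.of k)).commRingCatIsoToRingEquiv.symm.injective h'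
  rw [AddChar.zmodChar_apply, AddChar.zmodChar_apply] at h1
  exact ZMod.val_injective M (hζ.pow_inj (ZMod.val_lt _) (ZMod.val_lt _) h1)

variable {V : Type u} [CommRing V]

/-- A group over a strictly henselian domain whose special fibre is a torus has a torus as generic fibre. -/
theorem isTorus_generic [IsDomain V] [HenselianLocalRing V] [IsAlgClosed (IsLocalRing.ResidueField V)]
    (H : Over (Spec (CommRingCat.of V))) [GrpObj H] [Smooth H.hom] [IsSeparated H.hom] {r : ℕ}
    (hs : ∃ e : Red.DS (Spec ((Spec (CommRingCat.of V)).residueField (IsLocalRing.closedPoint V))) (Fin r → ℤ) ≅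
      Red.bc ((Spec (CommRingCat.of V)).fromSpecResidueField (IsLocalRing.closedPoint V)) H, IsMonHom e.hom)
    {Ω : Type u} [Field Ω] [IsAlgClosed Ω] (φΩ : V →+* Ω) (hι : Function.Injective φΩ)
    [IsAffine (Red.bc (Spec.map (CommRingCat.ofHom φΩ)) H).left]
    [ConnectedSpace (Red.bc (Spec.map (CommRingCat.ofHom φΩ)) H).left]
    (hdim : topologicalKrullDim (Red.bc (Spec.map (CommRingCat.ofHom φΩ)) H).left = r) :
    Red.IsTorus (Red.bc (Spec.map (CommRingCat.ofHom φΩ)) H) := by
  obtain ⟨e, he⟩ := hs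
  haveI := he
  let S := Spec (CommRingCat.of V)
  let s₀ : S := IsLocalRing.closedPoint V
  let k := S.residueField s₀
  let c : Spec k ⟶ S := S.fromSpecResidueField s₀
  haveI : IsClosedImmersion c := IsClosedImmersion.of_isPreimmersion _ (by
    rw [Scheme.range_fromSpecResidueField]
    exact IsLocalRing.isClosed_singleton_closedPoint V)
  let π : V →+* k := (Spec.preimage c).hom
  have hc : Spec.map (CommRingCat.ofHom π) = c := Spec.map_preimage _
  have hπ : Function.Surjective π := by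
    have h := ‹IsClosedImmersion c›
    rw [← hc] at h
    haveI := h
    exact EtLocLib.surjective_of_isClosedImmersion (CommRingCat.ofHom π)
  haveI : IsAlgClosed k := IsAlgClosed.of_ringEquiv (IsLocalRing.ResidueField V) k
    ((Ideal.quotEquivOfEq (IsLocalRing.eq_maximalIdeal (RingHom.ker_isMaximal_of_surjective _ hπ))).symm.trans
      (RingHom.quotientKerEquivOfSurjective hπ))
  -- a prime invertible in the residue field
  obtain ⟨ℓ, hℓp, hℓk⟩ : ∃ ℓ : ℕ, ℓ.Prime ∧ (ℓ : k) ≠ 0 := by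
    by_cases h : (2 : k) = 0
    · refine ⟨3, Nat.prime_three, fun h3 => one_ne_zero (α := k) ?_⟩
      have : (1 : k) = ((3 : ℕ) : k) - 2 := by norm_num
      rw [this, h3, h, sub_zero]
    · exact ⟨2, Nat.prime_two, by exact_mod_cast h⟩
  haveI := Fact.mk hℓp
  haveI : LocallyOfFiniteType (Red.bc c H).hom :=
    MorphismProperty.pullback_snd (P := @LocallyOfFiniteType) _ _ inferInstance
  let ρ := rho c H
  have hcomm : ∀ {Y : Over (Spec k)} (x y : Y ⟶ Red.bc c H), x * y = y * x := fun x y => mul_comm_of_iso e x y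
  -- torsion points of the special fibre lie in the étale locus
  have hmem : ∀ (m : ℕ), (m : k) ≠ 0 → ∀ (z : 𝟙_ (Over (Spec k)) ⟶ Red.bc c H) (p : Spec k),
      pullback.fst H.hom c (z.left p) ∈ PowEtCentralLib.etLocus H m := by
    intro m hm z p
    obtain ⟨U, hU, hUet⟩ := PowEtCentralLib.exists_nhd_of_fibre H m s₀ hm z fun X x => hcomm _ _
    refine ⟨U, ?_, hUet⟩
    rw [Subsingleton.elim (α := ↥(Spec k)) p (IsLocalRing.closedPoint k)]
    exact hU
  have hrange : ∀ (m : ℕ), (m : k) ≠ 0 → ∀ x : 𝟙_ (Over S) ⟶ H,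
      Set.range x.left.base ⊆ (PowEtCentralLib.etLocus H m : Set H.left) := by
    intro m hm x
    rintro _ ⟨p, rfl⟩
    refine ((IsLocalRing.specializes_closedPoint p).map x.left.continuous).mem_open
      (PowEtCentralLib.etLocus H m).2 ?_
    have h1 : (c ≫ x.left) (IsLocalRing.closedPoint k) ∈ PowEtCentralLib.etLocus H m := by
      rw [← rho_left_fst c x]
      exact hmem m hm (ρ x) _
    rw [Scheme.Hom.comp_apply] at h1
    rwa [show c (IsLocalRing.closedPoint k) = s₀ from S.fromSpecResidueField_apply _ _] at h1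
  have huniq : ∀ (m : ℕ), (m : k) ≠ 0 → ∀ x y : 𝟙_ (Over S) ⟶ H, x ^ m = 1 → y ^ m = 1 → ρ x = ρ y → x = y := by
    intro m hm x y hx hy h
    obtain ⟨l, hl, hl'⟩ := PowEtCentralLib.exists_torsion_lift x hx (hrange m hm x)
    obtain ⟨l', hl₁, hl₁'⟩ := PowEtCentralLib.exists_torsion_lift y hy (hrange m hm y)
    have hll : l = l' := by
      refine SubmDescLib.local_hom_ext π hπ (PowEtCentralLib.torsionπ H m) (hl.trans hl₁.symm) ?_
      rw [hc]
      apply pullback.hom_ext
      · rw [← cancel_mono (PowEtCentralLib.etLocus H m).ι]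
        simp only [Category.assoc]
        rw [hl', hl₁']
        exact (rho_eq_iff c x y).1 h
      · simp only [Category.assoc]
        exact congrArg (c ≫ ·) (hl.trans hl₁.symm)
    exact Over.OverMorphism.ext (by rw [← hl', hll, hl₁'])
  have hlift : ∀ (m : ℕ), (m : k) ≠ 0 → ∀ z : 𝟙_ (Over (Spec k)) ⟶ Red.bc c H, z ^ m = 1 →
      ∃ x : 𝟙_ (Over S) ⟶ H, x ^ m = 1 ∧ ρ x = z := by
    intro m hm z hz
    let Y₀ : Over S := (Over.map c).obj (𝟙_ (Over (Spec k)))
    let y₀ : Y₀ ⟶ H := (adjEquiv c _).symm z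
    have hy₀ : y₀ ^ m = 1 := by rw [← map_pow, hz, map_one]
    have hy₁ : y₀.left = z.left ≫ pullback.fst H.hom c := by
      have h := congrArg Over.Hom.left ((Over.mapPullbackAdj c).homEquiv_counit (X := 𝟙_ (Over (Spec k))) (Y := H) (g := z))
      exact h
    obtain ⟨l, hl, hl'⟩ := PowEtCentralLib.exists_torsion_lift y₀ hy₀ (by
      rintro _ ⟨p, rfl⟩
      rw [hy₁]
      exact hmem m hm z p)
    obtain ⟨σ, hσ, hσl⟩ := SubmDescLib.exists_hensel_section π hπ (PowEtCentralLib.torsionπ H m) l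
      (hl.trans ((Category.id_comp c).trans hc.symm))
    let q := σ ≫ pullback.fst _ _ ≫ (PowEtCentralLib.etLocus H m).ι
    have hq : q ≫ ((𝟙 H : H ⟶ H) ^ m).left = (η[H] : 𝟙_ (Over S) ⟶ H).left := by
      have := congrArg (σ ≫ ·) (pullback.condition (f := (PowEtCentralLib.etLocus H m).ι ≫ ((𝟙 H : H ⟶ H) ^ m).left)
        (g := (η[H] : 𝟙_ (Over S) ⟶ H).left))
      simp only [q, Category.assoc] at this ⊢
      rw [this, reassoc_of% hσ]
    have hqw : q ≫ H.hom = 𝟙 S := by
      have h1 := congrArg (· ≫ H.hom) hq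
      simp only [Category.assoc, Over.w] at h1
      exact h1
    let x : 𝟙_ (Over S) ⟶ H := Over.homMk q hqw
    refine ⟨x, ?_, ?_⟩
    · have : x ≫ (𝟙 H : H ⟶ H) ^ m = η[H] := Over.OverMorphism.ext hq
      rw [MonObj.comp_pow, Category.comp_id] at this
      rw [this, MonObj.one_eq_one]
    · refine Over.OverMorphism.ext (pullback.hom_ext ?_ ?_)
      · rw [rho_left_fst, ← hy₁, ← hl', ← hc]
        show Spec.map (CommRingCat.ofHom π) ≫ σ ≫ _ = _
        rw [reassoc_of% hσl]
      · exact (Over.w (ρ x)).trans (Over.w z).symm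
  -- the torsion points
  have hℓN : ∀ N : ℕ, ((ℓ ^ N : ℕ) : k) ≠ 0 := fun N => by rw [Nat.cast_pow]; exact pow_ne_zero _ hℓk
  haveI : ∀ N : ℕ, NeZero (ℓ ^ N) := fun N => ⟨(pow_pos hℓp.pos N).ne'⟩
  have hpow1 : ∀ (N : ℕ) (a : Multiplicative (Fin r → ZMod (ℓ ^ N))), a ^ (ℓ ^ N) = 1 := fun N a =>
    Multiplicative.toAdd.injective (by rw [toAdd_pow, toAdd_one]; funext j; simp)
  choose f hf using fun N : ℕ => exists_torsion_family (k := k) r (ℓ ^ N) (hℓN N)
  let z : ∀ N : ℕ, Multiplicative (Fin r → ZMod (ℓ ^ N)) → (𝟙_ (Over (Spec k)) ⟶ Red.bc c H) :=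
    fun N a => f N a ≫ e.hom
  have hz : ∀ N a, z N a ^ (ℓ ^ N) = 1 := fun N a => by
    rw [← MonObj.pow_comp]; erw [← map_pow, hpow1, map_one, MonObj.one_comp]
  choose L hL hLρ using fun N a => hlift _ (hℓN N) (z N a) (hz N a)
  have hcL : ∀ N M a b, Commute (L N a) (L M b) := by
    intro N M a b
    have h := huniq _ (hℓN M) (L N a * L M b * (L N a)⁻¹) (L M b)
      (by rw [conj_pow, hL, mul_one, mul_inv_cancel]) (hL M b)
      (by rw [map_mul, map_mul, map_inv, hcomm (ρ (L N a)) (ρ (L M b)), mul_inv_cancel_right])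
    exact mul_inv_eq_iff_eq_mul.1 h
  have hLmul : ∀ N a b, L N (a * b) = L N a * L N b := fun N a b =>
    huniq _ (hℓN N) _ _ (hL N _) (by rw [(hcL N N a b).mul_pow, hL, hL, mul_one])
      (by rw [map_mul, hLρ, hLρ, hLρ]; simp only [z, map_mul, MonObj.mul_comp])
  let ξ : Spec (CommRingCat.of Ω) ⟶ S := Spec.map (CommRingCat.ofHom φΩ)
  let Γm : ∀ N, Multiplicative (Fin r → ZMod (ℓ ^ N)) →* (𝟙_ (Over S) ⟶ H) := fun N => MonoidHom.mk' (L N) (hLmul N)
  haveI : Smooth (Red.bc ξ H).hom := MorphismProperty.pullback_snd (P := @Smooth) _ _ inferInstance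
  haveI : IsDominant ξ := by
    refine ⟨?_⟩
    show DenseRange (PrimeSpectrum.comap φΩ)
    rw [PrimeSpectrum.denseRange_comap_iff_ker_le_nilRadical, (RingHom.injective_iff_ker_eq_bot φΩ).1 hι]
    exact bot_le
  have hℓΩ : (ℓ : Ω) ≠ 0 := by
    have : IsUnit (ℓ : V) := by
      by_contra h
      apply hℓk
      rw [← map_natCast π]
      have h1 : (ℓ : V) ∈ RingHom.ker π := by
        rw [IsLocalRing.eq_maximalIdeal (RingHom.ker_isMaximal_of_surjective _ hπ)]
        exact h
      exact h1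
    intro h0
    exact (this.map φΩ).ne_zero (by rw [map_natCast]; exact h0)
  refine isTorus_of_torsion (Red.bc ξ H) hdim hℓΩ (fun N => (rho ξ H).comp (Γm N)) (fun N => ?_)
    (fun N M a b => (hcL N M a b).map (rho ξ H))
  intro a b hab
  have h1 : ξ ≫ (L N a).left = ξ ≫ (L N b).left := (rho_eq_iff ξ _ _).1 hab
  haveI : AlgebraicGeometry.IsReduced (𝟙_ (Over S)).left := inferInstanceAs (AlgebraicGeometry.IsReduced (Spec (CommRingCat.of V)))
  have h2 : L N a = L N b := Over.OverMorphism.ext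
    (ext_of_isDominant_of_isSeparated H.hom ((Over.w (L N a)).trans (Over.w (L N b)).symm) ξ h1)
  have h3 : z N a = z N b := by rw [← hLρ, ← hLρ, h2]
  exact hf N ((cancel_mono e.hom).1 h3)

end Groth.Agent.TorusFib
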