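import Groth.Agent.DSImgLib.Basic
import Mathlib.RingTheory.RootsOfUnity.AlgebraicallyClosed
import Mathlib.NumberTheory.LegendreSymbol.AddCharacter
import Mathlib.FieldTheory.Finiteness

/-!
# Homomorphisms of split tori injective on torsion
-/

set_option autoImplicit false
set_option linter.style.haveILetI false
set_option backward.isDefEq.respectTransparency false
set_option backward.isDefEq.respectTransparency.types false
set_option synthInstance.maxHeartbeats 200000
set_option maxHeartbeats 800000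

noncomputable section

universe u

open CategoryTheory CategoryTheory.Limits MonoidalCategory CartesianMonoidalCategory AlgebraicGeometry
open scoped MonObj

attribute [-instance] CategoryTheory.Hom.commGroup

namespace Groth.Agent.TorusFib

variable {ℓ r n : ℕ} [Fact ℓ.Prime]

/-- Reduction modulo a prime. -/
def red : (Fin n → ℤ) →+ (Fin n → ZMod ℓ) where
  toFun m i := (m i : ZMod ℓ)
  map_zero' := by ext i; simp
  map_add' a b := by ext i; simp

/-- The reduction of a map of lattices. -/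
def redHom (φ : (Fin r → ℤ) →+ (Fin n → ℤ)) : (Fin r → ZMod ℓ) →ₗ[ZMod ℓ] (Fin n → ZMod ℓ) :=
  ∑ j, (LinearMap.proj j).smulRight (red (φ (Pi.single j 1)))

theorem redHom_red (φ : (Fin r → ℤ) →+ (Fin n → ℤ)) (m : Fin r → ℤ) :
    redHom φ (red (ℓ := ℓ) m) = red (φ m) := by
  have hm : m = ∑ j, m j • Pi.single j (1 : ℤ) := by
    ext i
    simp [Finset.sum_apply, Pi.single_apply]
  conv_rhs => rw [hm, map_sum, map_sum]
  simp only [redHom, LinearMap.coe_sum, Finset.sum_apply, LinearMap.smulRight_apply, LinearMap.proj_apply]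
  refine Finset.sum_congr rfl fun j _ => ?_
  rw [map_zsmul, map_zsmul, ← Int.cast_smul_eq_zsmul (ZMod ℓ)]
  rfl

theorem red_surjective : Function.Surjective (red (ℓ := ℓ) (n := n)) := fun c => by
  refine ⟨fun i => ((c i).val : ℤ), ?_⟩
  ext i
  simp [red]

/-- A map of lattices surjective modulo a prime is injective if the ranks agree. -/
theorem injective_of_red (φ : (Fin n → ℤ) →+ (Fin n → ℤ)) (h : Function.Surjective (redHom (ℓ := ℓ) φ)) :
    Function.Injective φ := by
  have hinj : Function.Injective (redHom (ℓ := ℓ) φ) := LinearMap.injective_iff_surjective.2 h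
  refine (injective_iff_map_eq_zero φ).2 fun v hv => ?_
  have key : ∀ (k : ℕ) (v : Fin n → ℤ), φ v = 0 → ∀ i, ((ℓ : ℤ) ^ k) ∣ v i := by
    intro k
    induction k with
    | zero => intro v _ i; simp
    | succ k ih =>
      intro v hv i
      have h0 : red (ℓ := ℓ) v = 0 := hinj (by rw [redHom_red, hv, map_zero, map_zero])
      have hdiv : ∀ i, (ℓ : ℤ) ∣ v i := fun i => (ZMod.intCast_zmod_eq_zero_iff_dvd _ _).1 (congrFun h0 i)
      choose w hw using hdiv
      have hvw : v = (ℓ : ℤ) • w := funext fun i => hw i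
      have hℓ : (ℓ : ℤ) ≠ 0 := by exact_mod_cast (Fact.out : ℓ.Prime).ne_zero
      have hw0 : φ w = 0 := by
        rw [hvw, map_zsmul, smul_eq_zero] at hv
        exact hv.resolve_left hℓ
      rw [hw i, pow_succ']
      exact mul_dvd_mul_left _ (ih w hw0 i)
  ext i
  refine Int.eq_zero_of_dvd_of_natAbs_lt_natAbs (key (v i).natAbs v hv i) ?_
  rw [Int.natAbs_pow, Int.natAbs_natCast]
  exact Nat.lt_pow_self (Fact.out : ℓ.Prime).one_lt

variable {K : Type u} [Field K] [IsAlgClosed K]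

/-- A homomorphism of split tori which is injective on points killed by a prime. -/
theorem exists_dd_of_torsion (hℓ : (ℓ : K) ≠ 0)
    (w : Red.DS (Spec (CommRingCat.of K)) (Fin n → ℤ) ⟶ Red.DS (Spec (CommRingCat.of K)) (Fin r → ℤ)) [IsMonHom w]
    (h : ∀ x : 𝟙_ (Over (Spec (CommRingCat.of K))) ⟶ Red.DS (Spec (CommRingCat.of K)) (Fin n → ℤ),
      x ^ ℓ = 1 → x ≫ w = 1 → x = 1) :
    ∃ φ : (Fin r → ℤ) →+ (Fin n → ℤ), w = Red.DSmap (Spec (CommRingCat.of K)) φ ∧
      Function.Surjective (redHom (ℓ := ℓ) φ) := by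
  let B := Spec (CommRingCat.of K)
  let D := Red.DS B (Fin n → ℤ)
  let T₀ : Over B := 𝟙_ (Over B)
  have hfam : AutFam.IsHomFamily D (Red.DS B (Fin r → ℤ)) (fst D T₀ ≫ w) := fun X g₁ g₂ t => by
    rw [lift_fst_assoc, lift_fst_assoc, lift_fst_assoc, MonObj.mul_comp]
  obtain ⟨U, j, hj, hz, ψ, hψ⟩ := MultSubLib.exists_open_dd (fst D T₀ ≫ w) hfam
    (IsLocalRing.closedPoint K : (Spec (CommRingCat.of K)))
  haveI : IsIso j.left := by
    haveI : Surjective j.left := ⟨fun t => by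
      obtain ⟨z, hz⟩ := hz
      exact ⟨z, Subsingleton.elim (α := ↥(Spec (CommRingCat.of K))) _ _⟩⟩
    haveI : Epi j.left.base := (TopCat.epi_iff_surjective _).2 j.left.surjective
    exact IsOpenImmersion.isIso j.left
  haveI : IsIso j := by
    haveI : IsIso ((Over.forget _).map j) := ‹_›
    exact isIso_of_reflects_iso j (Over.forget _)
  have hw : w = MultSubLib.dd B ψ := by
    have h1 : lift (𝟙 D) (toUnit D ≫ inv j) ≫ (D ◁ j) ≫ fst D T₀ ≫ w =
        lift (𝟙 D) (toUnit D ≫ inv j) ≫ fst D U ≫ MultSubLib.dd B ψ :=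
      congrArg (fun z => lift (𝟙 D) (toUnit D ≫ inv j) ≫ z) hψ
    rw [whiskerLeft_fst_assoc, lift_fst_assoc, lift_fst_assoc, Category.id_comp, Category.id_comp] at h1
    exact h1
  let φ : (Fin r → ℤ) →+ (Fin n → ℤ) := ψ.toAdditive
  have hwφ : w = Red.DSmap B φ := by
    rw [hw]
    refine MultSubLib.chars_injective ?_
    rw [← Category.id_comp (Red.DSmap B φ), DSImg.chars_comp_DSmap, ← Category.id_comp (MultSubLib.dd B ψ),
      MultSubLib.chars_comp_dd]
    rfl
  refine ⟨φ, hwφ, ?_⟩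
  by_contra hns
  obtain ⟨c₀, hc₀⟩ := not_forall.1 hns
  obtain ⟨c, hc, hc1⟩ := Submodule.exists_dual_map_eq_bot_of_notMem
    (p := LinearMap.range (redHom (ℓ := ℓ) φ)) (x := c₀) (fun ⟨y, hy⟩ => hc₀ ⟨y, hy⟩) inferInstance
  haveI : NeZero (ℓ : K) := ⟨hℓ⟩
  haveI : NeZero ℓ := ⟨(Fact.out : ℓ.Prime).ne_zero⟩
  obtain ⟨ζ, hζ⟩ := HasEnoughRootsOfUnity.exists_primitiveRoot K ℓ
  let χ₀ := AddChar.zmodChar ℓ hζ.pow_eq_one
  let χ : Multiplicative (Fin n → ℤ) →* Γ(T₀.left, ⊤) :=
    (Scheme.ΓSpecIso (CommRingCat.of K)).inv.hom.toMonoidHom.comp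
      (χ₀.toMonoidHom.comp (c.toAddMonoidHom.comp (red (ℓ := ℓ))).toMultiplicative)
  let x : T₀ ⟶ D := DSPtsLib.dsPt χ
  have hpow : x ^ ℓ = 1 := by
    have e : ∀ k : ℕ, MultSubLib.chars (x ^ k) = MultSubLib.chars x ^ k := fun k => by
      induction k with
      | zero => rw [pow_zero, pow_zero, MultSubLib.chars_one]
      | succ k ih => rw [pow_succ, pow_succ, MultSubLib.chars_mul, ih]
    refine MultSubLib.chars_injective ?_
    rw [e, MultSubLib.chars_dsPt, MultSubLib.chars_one]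
    refine MonoidHom.ext fun m => ?_
    show (Scheme.ΓSpecIso (CommRingCat.of K)).inv.hom (χ₀ (c (red (ℓ := ℓ) m.toAdd))) ^ ℓ = 1
    rw [← map_pow, AddChar.zmodChar_apply, ← pow_mul, mul_comm, pow_mul, hζ.pow_eq_one, one_pow, map_one]
  have hcomp : x ≫ w = 1 := by
    rw [hwφ, DSImg.comp_DSmap_eq_one_iff, MultSubLib.chars_dsPt]
    intro m
    show (Scheme.ΓSpecIso (CommRingCat.of K)).inv.hom (χ₀ (c (red (ℓ := ℓ) (φ m)))) = 1
    have hm : c (red (ℓ := ℓ) (φ m)) ∈ (LinearMap.range (redHom (ℓ := ℓ) φ)).map c :=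
      ⟨_, ⟨red m, redHom_red φ m⟩, rfl⟩
    rw [hc1, Submodule.mem_bot] at hm
    rw [hm, AddChar.map_zero_eq_one, map_one]
  have h1 := congrArg MultSubLib.chars (h x hpow hcomp)
  rw [MultSubLib.chars_dsPt, MultSubLib.chars_one] at h1
  obtain ⟨m, hm⟩ := red_surjective (ℓ := ℓ) c₀
  have h2 : (Scheme.ΓSpecIso (CommRingCat.of K)).inv.hom (χ₀ (c (red (ℓ := ℓ) m))) = 1 :=
    DFunLike.congr_fun h1 (Multiplicative.ofAdd m)
  rw [map_eq_one_iff (Scheme.ΓSpecIso (CommRingCat.of K)).inv.hom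
    (Scheme.ΓSpecIso (CommRingCat.of K)).commRingCatIsoToRingEquiv.symm.injective,
    AddChar.zmodChar_apply, hζ.pow_eq_one_iff_dvd, hm] at h2
  exact hc ((ZMod.val_eq_zero _).1 (Nat.eq_zero_of_dvd_of_lt h2 (ZMod.val_lt _)))

theorem le_of_red (φ : (Fin r → ℤ) →+ (Fin n → ℤ)) (h : Function.Surjective (redHom (ℓ := ℓ) φ)) : n ≤ r := by
  have := LinearMap.finrank_le_finrank_of_injective
    (f := (redHom (ℓ := ℓ) φ).dualMap) (LinearMap.dualMap_injective_of_surjective h)
  simpa using this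

end Groth.Agent.TorusFib
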