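import Groth.Agent.TorusFibLib.Geom
import Groth.Agent.TorusFibLib.Torsion
import Groth.Agent.DSImgLib.Ker
import Groth.Agent.AbSchLib.Flat
import Groth.Agent.S5282
import Groth.Agent.MultTorusLib.Cover


/-!
# Groups with torus fibres over a normal base which are generically split are split tori
-/

set_option autoImplicit false
set_option linter.style.haveILetI false
set_option backward.isDefEq.respectTransparency false
set_option backward.isDefEq.respectTransparency.types false
set_option synthInstance.maxHeartbeats 200000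
set_option maxHeartbeats 1600000

noncomputable section

universe u

open CategoryTheory CategoryTheory.Limits MonoidalCategory CartesianMonoidalCategory AlgebraicGeometry
open scoped MonObj

attribute [-instance] CategoryTheory.Hom.commGroup

namespace Groth.Agent.TorusFib

open MultSubLib (chars chars_injective chars_comp)
open PowEtCentralLib (adjEquiv)

variable {S : Scheme.{u}}

theorem isUnit_of_basicOpen {X : Scheme.{u}} {f : Γ(X, ⊤)} (h : X.basicOpen f = ⊤) : IsUnit f :=
  X.toRingedSpace.isUnit_of_isUnit_germ ⊤ f fun x hx =>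
    (X.mem_basicOpen_top f x).1 (by rw [h]; trivial)

/-- A morphism with injective base change kills no nontrivial point over it. -/
theorem eq_one_of_map_mono {T : Scheme.{u}} (π : T ⟶ S) {H G : Over S} [GrpObj H] [GrpObj G] (v : H ⟶ G)
    [IsMonHom v] [Mono ((Over.pullback π).map v)] {Y : Over S} (t : Y ⟶ Over.mk π) (y : Y ⟶ H) (hy : y ≫ v = 1) :
    y = 1 := by
  let Y₀ : Over T := Over.mk t.left
  let e : (Over.map π).obj Y₀ ⟶ Y := Over.homMk (𝟙 Y.left) ((Category.id_comp _).trans (Over.w t).symm)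
  haveI : IsIso e := by
    haveI : IsIso ((Over.forget S).map e) := inferInstanceAs (IsIso (𝟙 Y.left))
    exact isIso_of_reflects_iso e (Over.forget S)
  let y₀ := adjEquiv (G := H) π Y₀ (e ≫ y)
  have h1 : y₀ ≫ (Over.pullback π).map v = 1 := by
    refine Eq.trans (Adjunction.homEquiv_naturality_right (Over.mapPullbackAdj π) (e ≫ y) v).symm ?_
    rw [Category.assoc, hy, MonObj.comp_one]
    exact map_one (adjEquiv (G := G) π Y₀)
  haveI : IsMonHom (M := Red.bc π H) (N := Red.bc π G) ((Over.pullback π).map v) := DiagRep.isMonHom_bc_map π v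
  have h2 : y₀ = 1 := by
    rw [← cancel_mono ((Over.pullback π).map v), h1]
    exact (MonObj.one_comp (M := Red.bc π H) (N := Red.bc π G) _).symm
  haveI : Epi e := IsIso.epi_of_iso e
  rw [← cancel_epi e, MonObj.comp_one]
  exact (map_eq_one_iff _ (adjEquiv (G := H) π Y₀).injective).1 h2

variable {H : Over S} [GrpObj H] {r : ℕ}

/-- Over an integral base, torsion points killed by a generically injective map to a split torus are trivial. -/
theorem torsion_trivial [IsIntegral S] [QuasiSeparatedSpace S] [IsSeparated H.hom] {ℓ : ℕ}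
    (hℓ : IsUnit (ℓ : Γ(S, ⊤))) [Flat (((𝟙 H) ^ ℓ : H ⟶ H)).left] (v : H ⟶ Red.DS S (Fin r → ℤ)) [IsMonHom v]
    [Mono ((Over.pullback (S.fromSpecResidueField (genericPoint S))).map v)]
    {Y : Over S} (y : Y ⟶ H) (h1 : y ^ ℓ = 1) (h2 : y ≫ v = 1) : y = 1 := by
  classical
  let Hℓ : Over S := pullback ((𝟙 H) ^ ℓ : H ⟶ H) (η[H] : 𝟙_ (Over S) ⟶ H)
  let i : Hℓ ⟶ H := pullback.fst _ _
  have sq := IsPullback.of_hasPullback ((𝟙 H) ^ ℓ : H ⟶ H) (η[H] : 𝟙_ (Over S) ⟶ H)
  have sqS := sq.map (Over.forget S)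
  haveI : IsClosedImmersion i.left :=
    haveI := DSImg.isClosedImmersion_one (G := H)
    MorphismProperty.of_isPullback (P := @IsClosedImmersion) sqS.flip ‹_›
  haveI : Flat Hℓ.hom := by
    rw [← Over.w (pullback.snd ((𝟙 H) ^ ℓ : H ⟶ H) (η[H] : 𝟙_ (Over S) ⟶ H))]
    haveI : Flat (pullback.snd ((𝟙 H) ^ ℓ : H ⟶ H) (η[H] : 𝟙_ (Over S) ⟶ H)).left :=
      MorphismProperty.of_isPullback sqS ‹_›
    haveI : Flat (𝟙_ (Over S)).hom := inferInstanceAs (Flat (𝟙 S))
    infer_instance
  have hi : i ^ ℓ = 1 := by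
    have := sq.w
    rw [MonObj.comp_pow, Category.comp_id] at this
    rw [this, Hom.one_def, toUnit_unique (pullback.snd _ _) (toUnit _)]
  let χ := chars (i ≫ v)
  let g : Fin r → Γ(Hℓ.left, ⊤) := fun j => χ (Multiplicative.ofAdd (Pi.single j 1))
  let f : Γ(Hℓ.left, ⊤) := ∏ j, ∑ k ∈ Finset.range ℓ, g j ^ k
  let D : Hℓ.left.Opens := Hℓ.left.basicOpen f
  let P : Over S := Over.mk (D.ι ≫ Hℓ.hom)
  let ιP : P ⟶ Hℓ := Over.homMk D.ι rfl
  let p : P ⟶ H := ιP ≫ i
  haveI : Mono ιP.left := inferInstanceAs (Mono D.ι)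
  haveI : Flat P.hom := inferInstanceAs (Flat (D.ι ≫ Hℓ.hom))
  haveI : IsSeparated P.hom := by
    haveI : IsSeparated Hℓ.hom := by rw [← Over.w i]; infer_instance
    exact inferInstanceAs (IsSeparated (D.ι ≫ Hℓ.hom))
  haveI : Mono p.left := by rw [Over.comp_left]; infer_instance
  have hpv : p ≫ v = 1 := by
    rw [Category.assoc]
    refine chars_injective ?_
    rw [MultSubLib.chars_one, chars_comp]
    show ιP.left.appTop.hom.toMonoidHom.comp χ = 1
    let ρ := ιP.left.appTop.hom
    have hb : ∀ j, ρ (g j) = 1 := by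
      intro j
      have hg : g j ^ ℓ = 1 := by
        have h3 : (i ≫ v) ^ ℓ = 1 := by rw [← MonObj.pow_comp, hi, MonObj.one_comp]
        have e : ∀ k : ℕ, chars ((i ≫ v) ^ k) = χ ^ k := fun k => by
          induction k with
          | zero => rw [pow_zero, pow_zero, MultSubLib.chars_one]
          | succ k ih => rw [pow_succ, pow_succ, MultSubLib.chars_mul, ih]
        have h4 := DFunLike.congr_fun (e ℓ) (Multiplicative.ofAdd (Pi.single j 1))
        rw [h3, MultSubLib.chars_one] at h4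
        exact h4.symm
      have hu : IsUnit (ρ f) := by
        refine isUnit_of_basicOpen ?_
        show (D : Scheme.{u}).basicOpen (D.ι.appTop.hom f) = ⊤
        rw [← Scheme.preimage_basicOpen_top, Scheme.Opens.ι_preimage_self]
      have huj : IsUnit (∑ k ∈ Finset.range ℓ, ρ (g j) ^ k) := by
        have := hu
        simp only [f, map_prod, IsUnit.prod_iff, map_sum, map_pow] at this
        exact this j (Finset.mem_univ j)
      have h0 : (ρ (g j) - 1) * ∑ k ∈ Finset.range ℓ, ρ (g j) ^ k = 0 := by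
        rw [mul_geom_sum, ← map_pow, hg, map_one, sub_self]
      exact sub_eq_zero.1 (huj.mul_left_eq_zero.1 h0)
    refine MonoidHom.ext fun m => ?_
    have hm : m.toAdd ∈ DSImg.chKer (ρ.toMonoidHom.comp χ) := by
      rw [show m.toAdd = ∑ j, m.toAdd j • Pi.single j (1 : ℤ) by ext j; simp [Finset.sum_apply, Pi.single_apply]]
      exact sum_mem fun j _ => zsmul_mem (show _ ∈ DSImg.chKer _ from hb j) _
    exact hm
  -- factorisation through the open part
  have hfac : ∀ (Z : Over S) (z : Z ⟶ H), z ^ ℓ = 1 → z ≫ v = 1 → ∃ l : Z ⟶ P, l ≫ p = z := by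
    intro Z z hz hzv
    obtain ⟨l, hl⟩ : ∃ l : Z ⟶ Hℓ, l ≫ i = z :=
      ⟨pullback.lift z (toUnit Z) (by rw [MonObj.comp_pow, Category.comp_id, hz, Hom.one_def]),
        pullback.lift_fst _ _ _⟩
    have hrange : l.left ⁻¹ᵁ D = ⊤ := by
      have hg : ∀ j, l.left.appTop.hom (g j) = 1 := fun j => by
        show (l.left.appTop.hom.toMonoidHom.comp χ) _ = 1
        rw [← chars_comp, ← Category.assoc, hl, hzv, MultSubLib.chars_one]
        rfl
      rw [Scheme.preimage_basicOpen_top]
      refine Scheme.basicOpen_of_isUnit _ ?_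
      simp only [f, map_prod, map_sum, map_pow, hg, one_pow, Finset.sum_const, Finset.card_range, nsmul_eq_mul,
        mul_one, IsUnit.prod_iff]
      intro j _
      have := hℓ.map Z.hom.appTop.hom
      rwa [map_natCast] at this
    obtain ⟨c, hc⟩ : ∃ c : Z.left ⟶ D, c ≫ D.ι = l.left :=
      ⟨IsOpenImmersion.lift D.ι l.left (fun x ⟨y, hy⟩ => by
        rw [Scheme.Opens.range_ι, ← hy]
        have : y ∈ l.left ⁻¹ᵁ D := hrange ▸ trivial
        exact this), IsOpenImmersion.lift_fac _ _ _⟩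
    refine ⟨Over.homMk c (by show c ≫ D.ι ≫ Hℓ.hom = Z.hom; rw [← Category.assoc, hc, Over.w l]), ?_⟩
    rw [← hl, ← Category.assoc]
    congr 1
    exact Over.OverMorphism.ext hc
  obtain ⟨e, he⟩ := hfac (𝟙_ (Over S)) 1 (one_pow _) (MonObj.one_comp v)
  obtain ⟨l, hl⟩ := hfac Y y h1 h2
  rw [← hl]
  refine eq_one_of_flat p ⟨e, he⟩ (fun Z t z => ?_) l
  refine eq_one_of_map_mono (S.fromSpecResidueField (genericPoint S)) v t (z ≫ p) ?_
  rw [Category.assoc, hpv, MonObj.comp_one]

theorem isUnit_natCast (ℓ : ℕ) (hℓ : ∀ s : S, (ℓ : S.residueField s) ≠ 0) : IsUnit (ℓ : Γ(S, ⊤)) := by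
  refine isUnit_of_basicOpen (eq_top_iff.2 fun s _ => ?_)
  rw [S.mem_basicOpen' (U := ⊤) (ℓ : Γ(S, ⊤)) ⟨s, trivial⟩]
  by_contra hns
  refine hℓ s ?_
  have h1 : S.residue s ((S.presheaf.germ ⊤ s trivial) (ℓ : Γ(S, ⊤))) = 0 :=
    (IsLocalRing.residue_eq_zero_iff _).2 hns
  simpa using h1

end Groth.Agent.TorusFib
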