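import Groth.Agent.TorusFibLib.Lift
import Groth.Agent.ProperConnLib.Henselian
import Groth.Agent.CartanMultLib.Central
import Groth.Agent.AlgSpLib.RelDim2
import Groth.Agent.FibDimLib.Semicont
import Groth.Agent.S0348

/-!
# Tori among the fibres: pointwise tools
-/

set_option autoImplicit false
set_option linter.style.haveILetI false
set_option backward.isDefEq.respectTransparency false
set_option backward.isDefEq.respectTransparency.types false
set_option synthInstance.maxHeartbeats 200000
set_option maxHeartbeats 800000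

noncomputable section

universe u

open CategoryTheory CategoryTheory.Limits MonoidalCategory CartesianMonoidalCategory AlgebraicGeometry
open scoped MonObj

attribute [-instance] CategoryTheory.Hom.commGroup

namespace Groth.Agent.TorusFib

open RedRank (Has TA)
open CoactBr
attribute [local instance] CoactBr.braidedAlgSpecOf

/-- Being a torus descends along an extension of fields. -/
theorem isTorus_of_bc_field {K L : Type u} [Field K] [Field L] (d : Spec (CommRingCat.of L) ⟶ Spec (CommRingCat.of K))
    {F : Over (Spec (CommRingCat.of K))} [GrpObj F] (h : Red.IsTorus (Red.bc d F)) : Red.IsTorus F := by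
  obtain ⟨T', f, hf, hs, hcov, hloc⟩ := h
  haveI := hf; haveI := hs
  haveI : Surjective d := ⟨fun y => ⟨IsLocalRing.closedPoint L,
    Subsingleton.elim (α := ↥(Spec (CommRingCat.of K))) _ _⟩⟩
  haveI : Flat d := by
    rw [← Spec.map_preimage d, HasRingHomProperty.Spec_iff (P := @Flat)]
    letI : Algebra K L := (Spec.preimage d).hom.toAlgebra
    exact (RingHom.flat_algebraMap_iff.2 inferInstance : (algebraMap K L).Flat)
  refine ⟨T', f ≫ d, inferInstance, inferInstance, fun V _ => ?_, fun z => ?_⟩
  · by_cases hV : IsLocalRing.closedPoint K ∈ V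
    · obtain ⟨W, hW, hWi⟩ := hcov ⊤ (isAffineOpen_top _)
      refine ⟨W, hW, Set.eq_of_subset_of_subset ?_ fun y hy => ?_⟩
      · rintro _ ⟨w, -, rfl⟩
        rw [Subsingleton.elim (α := ↥(Spec (CommRingCat.of K))) ((f ≫ d).base w) (IsLocalRing.closedPoint K)]
        exact hV
      · obtain ⟨w, hw, -⟩ := hWi.ge (Set.mem_univ (IsLocalRing.closedPoint L))
        exact ⟨w, hw, Subsingleton.elim (α := ↥(Spec (CommRingCat.of K))) _ _⟩
    · refine ⟨⊥, isCompact_empty, ?_⟩
      simp only [TopologicalSpace.Opens.coe_bot, Set.image_empty]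
      refine (Set.eq_empty_of_forall_notMem fun y hy => hV ?_).symm
      rwa [Subsingleton.elim (α := ↥(Spec (CommRingCat.of K))) (IsLocalRing.closedPoint K) y]
  · obtain ⟨U, hU, r, ⟨E⟩⟩ := hloc z
    refine ⟨U, hU, r, ?_⟩
    let e₁ : Red.bc (U.ι ≫ f) (Red.bc d F) ≅ Red.DS _ (Fin r → ℤ) := (Grp.forget _).mapIso E
    haveI : IsMonHom e₁.hom := E.hom.hom.isMonHom_hom
    let b : Red.bc (U.ι ≫ f) (Red.bc d F) ≅ Red.bc (U.ι ≫ f ≫ d) F :=
      ActBC.bcCompIso (U.ι ≫ f) d F (Category.assoc _ _ _)
    haveI : IsMonHom b.hom := ActBC.bcCompIso_isMonHom _ _ _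
    haveI : IsMonHom b.inv := inferInstance
    let w : Red.bc (U.ι ≫ f ≫ d) F ≅ Red.DS (U : Scheme.{u}) (Fin r → ℤ) := b.symm ≪≫ e₁
    haveI : IsMonHom w.hom := inferInstanceAs (IsMonHom (b.inv ≫ e₁.hom))
    exact ⟨Grp.mkIso w (IsMonHom.one_hom w.hom) (IsMonHom.mul_hom w.hom)⟩

variable {S : Scheme.{u}} {H : Over S} [GrpObj H]

/-- A point valued in a field over a point with torus fibre. -/
theorem isTorus_bc_point {s : S} (hs : Red.IsTorus (Red.bc (S.fromSpecResidueField s) H)) {K : Type u} [Field K]
    (ξ : Spec (CommRingCat.of K) ⟶ S) (hξ : ξ (IsLocalRing.closedPoint K) = s) : Red.IsTorus (Red.bc ξ H) := by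
  subst hξ
  obtain ⟨θ, hθ⟩ := RedCharZeroLib.exists_bc_comp (Spec.map (Scheme.descResidueField (Scheme.stalkClosedPointTo ξ)))
    (S.fromSpecResidueField (ξ (IsLocalRing.closedPoint K))) H
  haveI := hθ
  have h := RedRank.isTorus_of_iso θ (RedRank.isTorus_bc hs _)
  rwa [Scheme.descResidueField_stalkClosedPointTo_fromSpecResidueField] at h

/-- A fibre is a torus if it is one after some extension of the residue field. -/
theorem isTorus_fibre_of_point {K : Type u} [Field K] (ξ : Spec (CommRingCat.of K) ⟶ S) {s : S}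
    (hξ : ξ (IsLocalRing.closedPoint K) = s) (h : Red.IsTorus (Red.bc ξ H)) :
    Red.IsTorus (Red.bc (S.fromSpecResidueField s) H) := by
  subst hξ
  rw [← Scheme.descResidueField_stalkClosedPointTo_fromSpecResidueField K S ξ] at h
  obtain ⟨θ, hθ⟩ := RedCharZeroLib.exists_bc_comp (Spec.map (Scheme.descResidueField (Scheme.stalkClosedPointTo ξ)))
    (S.fromSpecResidueField (ξ (IsLocalRing.closedPoint K))) H
  haveI := hθ
  haveI : IsMonHom θ.symm.hom := inferInstanceAs (IsMonHom θ.inv)
  exact isTorus_of_bc_field _ (RedRank.isTorus_of_iso θ.symm h)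

theorem exists_DS_of_isTorus {K : Type u} [Field K] [IsAlgClosed K] {T : Over (Spec (CommRingCat.of K))} [GrpObj T]
    (hT : Red.IsTorus T) : ∃ (n : ℕ) (e : Red.DS (Spec (CommRingCat.of K)) (Fin n → ℤ) ≅ T), IsMonHom e.hom := by
  obtain ⟨n, v, hv, hv', -⟩ := RedRank.exists_torus_rank hT
  obtain ⟨w, hw, hw'⟩ := TorusField.exists_DS_iso K (Fin n → ℤ)
  haveI := hv; haveI := hv'; haveI := hw; haveI := hw'
  exact ⟨n, w.symm ≪≫ v, inferInstanceAs (IsMonHom (w.inv ≫ v.hom))⟩

/-- The geometric fibres of a group with connected affine fibres. -/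
theorem geom_facts [LocallyOfFiniteType H.hom]
    (hconn : ∀ t : S, ConnectedSpace ↥(pullback H.hom (S.fromSpecResidueField t)))
    (haff : ∀ t : S, IsAffine (pullback H.hom (S.fromSpecResidueField t))) (t : S) :
    IsAffine (Red.geomFibre t H).left ∧ ConnectedSpace (Red.geomFibre t H).left ∧
      topologicalKrullDim (Red.geomFibre t H).left =
        FlatMor.fibreDimAt H.hom ((η[H] : 𝟙_ (Over S) ⟶ H).left t) := by
  let a : Spec (CommRingCat.of (AlgebraicClosure (S.residueField t))) ⟶ Spec (S.residueField t) :=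
    Spec.map (CommRingCat.ofHom (algebraMap (S.residueField t) (AlgebraicClosure (S.residueField t))))
  haveI := haff t
  haveI hA : IsAffine (Red.geomFibre t H).left := by
    haveI : IsAffineHom (pullback.snd H.hom (S.fromSpecResidueField t)) := isAffineHom_of_isAffine _
    haveI : IsAffine (pullback (pullback.snd H.hom (S.fromSpecResidueField t)) a) :=
      isAffine_of_isAffineHom (pullback.snd (pullback.snd H.hom (S.fromSpecResidueField t)) a)
    exact IsAffine.of_isIso (pullbackLeftPullbackSndIso H.hom (S.fromSpecResidueField t) a).inv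
  haveI hC : ConnectedSpace (Red.geomFibre t H).left := by
    refine CartanMult.connectedSpace_geomFibre H t ?_
    haveI := hconn t
    have h : H.hom.base ⁻¹' {t} = Set.range (pullback.fst H.hom (S.fromSpecResidueField t)) := by
      rw [Scheme.Pullback.range_fst, Scheme.range_fromSpecResidueField]
    rw [h]
    exact isConnected_range (pullback.fst H.hom (S.fromSpecResidueField t)).continuous
  refine ⟨hA, hC, ?_⟩
  haveI : IrreducibleSpace ↥(pullback H.hom (Red.geomPt t)) :=
    Groth.Agent.S0348.result (AlgebraicClosure (S.residueField t)) (Red.geomFibre t H)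
  let z : Spec (CommRingCat.of (AlgebraicClosure (S.residueField t))) ⟶ pullback H.hom (Red.geomPt t) :=
    pullback.lift (Red.geomPt t ≫ (η[H] : 𝟙_ (Over S) ⟶ H).left) (𝟙 _) (by
      have h1 : (η[H] : 𝟙_ (Over S) ⟶ H).left ≫ H.hom = 𝟙 S := Over.w _
      rw [Category.assoc, h1, Category.comp_id, Category.id_comp])
  have hz : pullback.fst H.hom (Red.geomPt t) (z (IsLocalRing.closedPoint _)) =
      (η[H] : 𝟙_ (Over S) ⟶ H).left t := by
    rw [← Scheme.Hom.comp_apply, pullback.lift_fst, Scheme.Hom.comp_apply, RedRank.geomPt_apply]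
    rfl
  rw [← hz, fibreDimAt_of_irreducible (Red.geomPt t) H.hom]
  rfl

/-- A connected affine smooth group with a subtorus of full dimension is a torus. -/
theorem isTorus_of_has {K : Type u} [Field K] [IsAlgClosed K] (G : Over (Spec (CommRingCat.of K))) [GrpObj G]
    [Smooth G.hom] [IsAffine G.left] [ConnectedSpace G.left] {r : ℕ} (hdim : topologicalKrullDim G.left = r)
    (h : Has G r) : Red.IsTorus G := by
  obtain ⟨i, hi, hm⟩ := (RedRank.has_iff G r).1 h
  haveI := hi; haveI := hm
  haveI : IsAffineHom G.hom := isAffineHom_of_isAffine _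
  haveI := RedRank.isClosedImmersion_of_mono_sp i
  haveI : IrreducibleSpace G.left := Groth.Agent.S0348.result K G
  haveI : Surjective i.left := ⟨fun y => by
    by_contra hy
    have hlt := Groth.Agent.S10830.result G.left
      (by rw [hdim]; exact ne_of_lt (WithBot.coe_lt_coe.2 (ENat.natCast_lt_top r)))
      (Set.range i.left) i.left.isClosedEmbedding.isClosed_range fun h => hy (h.ge (Set.mem_univ y))
    let a := i.left.isClosedEmbedding.isEmbedding.toHomeomorph
    rw [← IsHomeomorph.topologicalKrullDim_eq a a.isHomeomorph, hdim, RedRank.topologicalKrullDim_sp_TA] at hlt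
    exact lt_irrefl _ hlt⟩
  haveI : AlgebraicGeometry.IsReduced G.left := AlgSpLib.isReduced_of_smooth G.hom
  haveI : IsIso i.left := isIso_of_isClosedImmersion_of_surjective i.left
  haveI : IsIso i := by
    haveI : IsIso ((Over.forget _).map i) := ‹IsIso i.left›
    exact isIso_of_reflects_iso i (Over.forget _)
  obtain ⟨w, hw, hw'⟩ := TorusField.exists_DS_iso K (Fin r → ℤ)
  haveI := hw; haveI := hw'
  let e : G ≅ Red.DS (Spec (CommRingCat.of K)) (Fin r → ℤ) := (asIso i).symm ≪≫ w
  haveI : IsMonHom (asIso i).hom := inferInstanceAs (IsMonHom i)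
  haveI : IsMonHom e.hom := inferInstanceAs (IsMonHom ((asIso i).inv ≫ w.hom))
  exact RedRank.isTorus_of_iso e (RedRank.isTorus_DS _ r)

/-- Fibres at generisations of a point with torus fibre are tori. -/
theorem isTorus_of_specializes [Smooth H.hom] [IsSeparated H.hom]
    (hconn : ∀ t : S, ConnectedSpace ↥(pullback H.hom (S.fromSpecResidueField t)))
    (haff : ∀ t : S, IsAffine (pullback H.hom (S.fromSpecResidueField t)))
    {s t : S} (hts : t ⤳ s) (hs : Red.IsTorus (Red.bc (S.fromSpecResidueField s) H)) :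
    Red.IsTorus (Red.bc (S.fromSpecResidueField t) H) := by
  let σ : S ⟶ H.left := (η[H] : 𝟙_ (Over S) ⟶ H).left
  let Ω := AlgebraicClosure (S.residueField t)
  let ψ : S.presheaf.stalk s ⟶ CommRingCat.of Ω :=
    S.presheaf.stalkSpecializes hts ≫ S.residue t ≫ CommRingCat.ofHom (algebraMap (S.residueField t) Ω)
  obtain ⟨A, hA, hloc⟩ := IsLocalRing.exists_factor_valuationRing ψ.hom
  haveI : IsLocalHom (ψ.hom.codRestrict A.toSubring hA) := hloc
  let χ : S.presheaf.stalk s ⟶ CommRingCat.of A := CommRingCat.ofHom (ψ.hom.codRestrict _ hA)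
  let g : Spec (CommRingCat.of A) ⟶ S := Spec.map χ ≫ S.fromSpecStalk s
  let φA : A →+* Ω := algebraMap A Ω
  let ξ : Spec (CommRingCat.of Ω) ⟶ Spec (CommRingCat.of A) := Spec.map (CommRingCat.ofHom φA)
  have hξ : ξ ≫ g = Red.geomPt t := by
    show _ = _ ≫ S.fromSpecResidueField t
    rw [Scheme.fromSpecResidueField, ← Scheme.SpecMap_stalkSpecializes_fromSpecStalk hts]
    simp only [ξ, g, ← Spec.map_comp_assoc]
    rfl
  haveI : HenselianLocalRing A := ProperConnLib.henselianLocalRing_of_isAlgClosed A Ω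
  haveI : IsAlgClosed (IsLocalRing.ResidueField A) := ProperConnLib.isAlgClosed_residueField A Ω
  let s₀ : Spec (CommRingCat.of A) := IsLocalRing.closedPoint A
  have hgs : g s₀ = s := by
    show (Spec.map χ ≫ S.fromSpecStalk s) _ = s
    rw [Scheme.Hom.comp_apply,
      show Spec.map χ s₀ = IsLocalRing.closedPoint (S.presheaf.stalk s) from
        IsLocalRing.comap_closedPoint (S := A) (ψ.hom.codRestrict A.toSubring hA), S.fromSpecStalk_closedPoint]
  let HV := Red.bc g H
  haveI : Smooth HV.hom := MorphismProperty.pullback_snd (P := @Smooth) _ _ inferInstance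
  haveI : IsSeparated HV.hom := MorphismProperty.pullback_snd (P := @IsSeparated) _ _ inferInstance
  let c := (Spec (CommRingCat.of A)).fromSpecResidueField s₀
  let k := (Spec (CommRingCat.of A)).residueField s₀
  haveI : IsAlgClosed k := by
    haveI : IsClosedImmersion c := IsClosedImmersion.of_isPreimmersion _ (by
      rw [Scheme.range_fromSpecResidueField]
      exact IsLocalRing.isClosed_singleton_closedPoint A)
    have hc : Spec.map (CommRingCat.ofHom (Spec.preimage c).hom) = c := Spec.map_preimage _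
    haveI : IsClosedImmersion (Spec.map (CommRingCat.ofHom (Spec.preimage c).hom)) := by rw [hc]; infer_instance
    have hπ : Function.Surjective (Spec.preimage c).hom :=
      EtLocLib.surjective_of_isClosedImmersion (CommRingCat.ofHom (Spec.preimage c).hom)
    exact IsAlgClosed.of_ringEquiv (IsLocalRing.ResidueField A) k
      ((Ideal.quotEquivOfEq (IsLocalRing.eq_maximalIdeal (RingHom.ker_isMaximal_of_surjective _ hπ))).symm.trans
        (RingHom.quotientKerEquivOfSurjective hπ))
  have hcs : (c ≫ g) (IsLocalRing.closedPoint k) = s := by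
    rw [Scheme.Hom.comp_apply, show c (IsLocalRing.closedPoint k) = s₀ from Scheme.fromSpecResidueField_apply _ _]
    exact hgs
  obtain ⟨r, e, he⟩ := exists_DS_of_isTorus (K := k) (isTorus_bc_point (K := k) hs (c ≫ g) hcs)
  haveI := he
  obtain ⟨θ, hθ⟩ := RedCharZeroLib.exists_bc_comp c g H
  haveI := hθ
  have hr : FlatMor.fibreDimAt H.hom (σ s) = r := by
    rw [← hcs]
    exact fibreDimAt_one (c ≫ g) e
  have hr' : FlatMor.fibreDimAt H.hom (σ t) = r := by
    obtain ⟨O, n, hO, hn⟩ := AlgSpLib.exists_open_fibreDimAt_of_smooth H.hom (σ s)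
    rw [hn _ ((hts.map σ.continuous).mem_open O.2 hO), ← hr, hn _ hO]
  obtain ⟨hAff, hC, hdim⟩ := geom_facts hconn haff t
  obtain ⟨b, hb⟩ := RedCharZeroLib.exists_bc_comp ξ g H
  haveI := hb
  let m : (Red.bc ξ HV).left ≅ (Red.geomFibre t H).left :=
    (Over.forget _).mapIso b.symm ≪≫ eqToIso (congrArg (fun q => (Red.bc q H).left) hξ)
  let hhomeo : ↥(Red.bc ξ HV).left ≃ₜ ↥(Red.geomFibre t H).left := Scheme.homeoOfIso m
  haveI : IsAffine (Red.bc ξ HV).left := by
    haveI := hAff
    exact IsAffine.of_isIso m.hom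
  haveI : ConnectedSpace (Red.bc ξ HV).left := hhomeo.symm.surjective.connectedSpace hhomeo.symm.continuous
  have hdim' : topologicalKrullDim (Red.bc ξ HV).left = r := by
    rw [IsHomeomorph.topologicalKrullDim_eq hhomeo hhomeo.isHomeomorph, hdim]
    exact hr'
  have hT := isTorus_generic HV ⟨e ≪≫ θ, inferInstanceAs (IsMonHom (e.hom ≫ θ.hom))⟩ φA
    Subtype.val_injective hdim'
  refine isTorus_fibre_of_point (ξ ≫ g) ?_ (RedRank.isTorus_of_iso b hT)
  rw [hξ]
  exact RedRank.geomPt_apply t

end Groth.Agent.TorusFib
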