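import Groth.Agent.DSImgLib.Fibre
import Groth.Agent.FibDimLib.Comps
import Groth.Agent.FibDimLib.SchemeInv

/-!
# Trivial kernels over an integral base
-/

set_option autoImplicit false
set_option linter.style.haveILetI false
set_option backward.isDefEq.respectTransparency false
set_option backward.isDefEq.respectTransparency.types false
set_option synthInstance.maxHeartbeats 200000
set_option maxHeartbeats 800000

noncomputable section

universe u

open CategoryTheory CategoryTheory.Limits MonoidalCategory CartesianMonoidalCategory AlgebraicGeometry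
open scoped MonObj

attribute [-instance] CategoryTheory.Hom.commGroup

namespace Groth.Agent.TorusFib

/-- The generic fibre of a flat scheme over an integral base is schematically dense. -/
theorem isIso_section {S : Scheme.{u}} [IsIntegral S] [QuasiSeparatedSpace S] {P : Scheme.{u}} (p : P ⟶ S)
    [Flat p] (e : S ⟶ P) [IsClosedImmersion e]
    (h : pullback.fst p (S.fromSpecResidueField (genericPoint S)) =
      pullback.snd p (S.fromSpecResidueField (genericPoint S)) ≫ S.fromSpecResidueField (genericPoint S) ≫ e) :
    IsIso e := by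
  let xη := S.fromSpecResidueField (genericPoint S)
  haveI : QuasiCompact xη := quasiCompact_of_compactSpace _
  haveI : IsDominant xη := ⟨by
    rw [DenseRange, Scheme.range_fromSpecResidueField, dense_iff_closure_eq, genericPoint_closure]⟩
  haveI : IsSchemeTheoreticallyDominant xη := IsSchemeTheoreticallyDominant.of_isDominant xη
  haveI : IsSchemeTheoreticallyDominant (pullback.fst p xη) := inferInstance
  refine IsClosedImmersion.isIso_iff_ker_eq_bot.2 (le_bot_iff.1 ?_)
  have h1 : e.ker ≤ (pullback.fst p xη).ker := by
    rw [h, ← Category.assoc]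
    exact Scheme.Hom.le_ker_comp _ e
  exact h1.trans_eq (pullback.fst p xη).ker_eq_bot

/-- A part of a group, flat over an integral base, which is trivial over the generic point is trivial. -/
theorem eq_one_of_flat {S : Scheme.{u}} [IsIntegral S] [QuasiSeparatedSpace S] {H : Over S} [GrpObj H]
    [IsSeparated H.hom] {P : Over S} [Flat P.hom] (p : P ⟶ H) [Mono p.left] [IsSeparated P.hom]
    (hone : ∃ e : 𝟙_ (Over S) ⟶ P, e ≫ p = 1)
    (hη : ∀ (Y : Over S) (_t : Y ⟶ Over.mk (S.fromSpecResidueField (genericPoint S))) (y : Y ⟶ P), y ≫ p = 1)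
    {Y : Over S} (y : Y ⟶ P) : y ≫ p = 1 := by
  obtain ⟨e, he⟩ := hone
  have hew : e.left ≫ P.hom = 𝟙 S := Over.w e
  haveI : IsClosedImmersion e.left := by
    haveI : IsClosedImmersion (e.left ≫ P.hom) := by rw [hew]; exact inferInstanceAs (IsClosedImmersion (𝟙 S))
    exact IsClosedImmersion.of_comp e.left P.hom
  haveI : Mono p := Over.mono_of_mono_left p
  let xη := S.fromSpecResidueField (genericPoint S)
  have h : pullback.fst P.hom xη = pullback.snd P.hom xη ≫ xη ≫ e.left := by
    let Y₀ : Over S := Over.mk (pullback.snd P.hom xη ≫ xη)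
    let t : Y₀ ⟶ Over.mk xη := Over.homMk (pullback.snd P.hom xη) rfl
    let y₀ : Y₀ ⟶ P := Over.homMk (pullback.fst P.hom xη) pullback.condition
    have h1 : y₀ = toUnit Y₀ ≫ e := by
      rw [← cancel_mono p, hη Y₀ t y₀, Category.assoc, he, MonObj.comp_one]
    have h2 : (toUnit Y₀).left = pullback.snd P.hom xη ≫ xη := Over.w (toUnit Y₀) |>.symm.trans (by simp) |>.symm
    have h3 := congrArg CommaMorphism.left h1
    simp only [Over.comp_left] at h3
    rw [h2, Category.assoc] at h3
    exact h3
  haveI := isIso_section P.hom e.left h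
  haveI : IsIso e := by
    haveI : IsIso ((Over.forget S).map e) := ‹_›
    exact isIso_of_reflects_iso e (Over.forget S)
  rw [show y = y ≫ inv e ≫ e by rw [IsIso.inv_hom_id, Category.comp_id], Category.assoc, Category.assoc, he,
    MonObj.comp_one, MonObj.comp_one]

/-- The local dimension of a fibre which is irreducible after an extension of the residue field. -/
theorem fibreDimAt_of_irreducible {S : Scheme.{u}} {K : Type u} [Field K] (ξ : Spec (CommRingCat.of K) ⟶ S)
    {X : Scheme.{u}} (f : X ⟶ S) [LocallyOfFiniteType f] [IrreducibleSpace ↥(pullback f ξ)]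
    (z : ↥(pullback f ξ)) :
    FlatMor.fibreDimAt f (pullback.fst f ξ z) = topologicalKrullDim ↥(pullback f ξ) := by
  rw [← FibDimLib.fibreDimAt_baseChange (IsPullback.of_hasPullback f ξ) z]
  let q := pullback.snd f ξ
  show FlatMor.localDim (q.fiber (q z)) (q.asFiber z) = _
  have hsurj : Function.Surjective (q.fiberι (q z)) := fun w => by
    have hw : w ∈ Set.range (q.fiberι (q z)) := by
      rw [q.range_fiberι]
      exact Subsingleton.elim (α := ↥(Spec (CommRingCat.of K))) _ _
    exact hw
  have ho : Topology.IsOpenEmbedding (q.fiberι (q z)) :=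
    ((q.fiberι (q z)).isEmbedding.toHomeomorphOfSurjective hsurj).isOpenEmbedding
  rw [← FibDimLib.localDim_eq_of_isOpenEmbedding ho (q.asFiber z)]
  exact FibDimLib.localDim_of_irreducible q _

end Groth.Agent.TorusFib
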