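import Groth.Agent.MaxTorusRankLib.Etale
import Groth.Agent.TorusLiftLib.Smooth
import Groth.Agent.S16611
import Groth.Agent.RedRankLib.CommRel

/-!
# Tori over fields split over finite extensions
-/

set_option autoImplicit false
set_option linter.style.haveILetI false
set_option backward.isDefEq.respectTransparency false
set_option backward.isDefEq.respectTransparency.types false
set_option synthInstance.maxHeartbeats 200000
set_option maxHeartbeats 800000

noncomputable section

universe u

open CategoryTheory CategoryTheory.Limits MonoidalCategory CartesianMonoidalCategory AlgebraicGeometry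
open scoped MonObj

attribute [-instance] CategoryTheory.Hom.commGroup

namespace Groth.Agent.TorusFib

variable {K : Type u} [Field K]

theorem finite_of_closed {W : Scheme.{u}} (g : W ⟶ Spec (CommRingCat.of K)) [LocallyOfFiniteType g] {w : W}
    (hw : IsClosed ({w} : Set W)) :
    ∃ (L : Type u) (_ : Field L) (_ : Algebra K L) (_ : Module.Finite K L)
      (x : Spec (CommRingCat.of L) ⟶ W), x ≫ g = Spec.map (CommRingCat.ofHom (algebraMap K L)) := by
  haveI : IsClosedImmersion (W.fromSpecResidueField w) :=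
    IsClosedImmersion.of_isPreimmersion _ (by rw [Scheme.range_fromSpecResidueField]; exact hw)
  letI : Algebra K (W.residueField w) := (Spec.preimage (W.fromSpecResidueField w ≫ g)).hom.toAlgebra
  have hx : W.fromSpecResidueField w ≫ g = Spec.map (CommRingCat.ofHom (algebraMap K (W.residueField w))) :=
    (Spec.map_preimage _).symm
  haveI : Algebra.FiniteType K (W.residueField w) := by
    have h : LocallyOfFiniteType (W.fromSpecResidueField w ≫ g) := inferInstance
    rw [hx] at h
    exact RingHom.finiteType_algebraMap.1 ((HasRingHomProperty.Spec_iff (P := @LocallyOfFiniteType)).1 h)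
  exact ⟨W.residueField w, inferInstance, inferInstance, finite_of_finite_type_of_isJacobsonRing K _,
    W.fromSpecResidueField w, hx⟩

/-- A torus over a field splits over a finite extension. -/
theorem exists_finite_split (T : Over (Spec (CommRingCat.of K))) [GrpObj T] (hT : Red.IsTorus T) :
    ∃ (L : Type u) (_ : Field L) (_ : Algebra K L) (_ : Module.Finite K L) (r : ℕ)
      (e : Red.DS (Spec (CommRingCat.of L)) (Fin r → ℤ) ≅ Red.bc (Spec.map (CommRingCat.ofHom (algebraMap K L))) T),
      IsMonHom e.hom := by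
  haveI : IsAffineHom T.hom := MultEq.isAffineHom_of_isMultTypeFT (RedRank.isMultTypeFT_of_isTorus hT)
  haveI : Smooth T.hom := TorusLift.smooth_of_isTorus hT
  let s : Spec (CommRingCat.of K) := IsLocalRing.closedPoint K
  obtain ⟨r, hr⟩ := MaxTorusRank.exists_rank hT s
  obtain ⟨W, g, i, hg, hi, him, hcov⟩ := RedRank.exists_cover T r
  obtain ⟨w₀, hw₀⟩ := hcov s (((hr _ (Red.geomPt s) (RedRank.geomPt_apply s)).1 r).2 le_rfl)
  haveI : JacobsonSpace W := LocallyOfFiniteType.jacobsonSpace g
  obtain ⟨w, -, hw⟩ := nonempty_inter_closedPoints (Z := (Set.univ : Set W)) ⟨w₀, trivial⟩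
    isClosed_univ.isLocallyClosed
  obtain ⟨L, _, _, _, x, hx⟩ := finite_of_closed g hw
  let c := Spec.map (CommRingCat.ofHom (algebraMap K L))
  obtain ⟨e₀, he₀⟩ := RedCharZeroLib.exists_DS_bc x (Fin r → ℤ)
  haveI := he₀; haveI := hi; haveI := him
  haveI : IsMonHom (M := Red.bc x (Red.DS W (Fin r → ℤ))) (N := Red.bc x (Red.bc g T)) ((Over.pullback x).map i) :=
    DiagRep.isMonHom_bc_map x i
  haveI : Mono ((Over.pullback x).map i) := by
    haveI : (Over.pullback x).IsRightAdjoint := (Over.mapPullbackAdj _).isRightAdjoint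
    infer_instance
  obtain ⟨θ, hθ⟩ := RedCharZeroLib.exists_bc_comp x g T
  haveI := hθ
  haveI : IsMonHom θ.inv := inferInstance
  let j : Red.DS (Spec (CommRingCat.of L)) (Fin r → ℤ) ⟶ Red.bc (x ≫ g) T :=
    e₀.hom ≫ (Over.pullback x).map i ≫ θ.inv
  haveI : IsMonHom j := inferInstanceAs (IsMonHom (e₀.hom ≫ (Over.pullback x).map i ≫ θ.inv))
  haveI : Mono j := inferInstanceAs (Mono (e₀.hom ≫ (Over.pullback x).map i ≫ θ.inv))
  suffices h : IsIso j by
    refine ⟨L, inferInstance, inferInstance, inferInstance, r, ?_⟩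
    rw [← hx]
    exact ⟨asIso j, inferInstanceAs (IsMonHom j)⟩
  refine Groth.Agent.S16611.result (RedRank.isTorus_DS _ r) (RedRank.isTorus_bc hT (x ≫ g)) j fun z => ?_
  let q : Spec (CommRingCat.of (AlgebraicClosure ((Spec (CommRingCat.of L)).residueField z))) ⟶
    Spec (CommRingCat.of L) := Red.geomPt z
  have hsplit : ∀ (X : Over (Spec (CommRingCat.of L))) [GrpObj X], Red.IsTorus X →
      (∀ m, RedRank.Has (Red.bc q X) m ↔ m ≤ r) → Red.IsSplitTorusWith (Fin r → ℤ) (Red.bc q X) := by
    intro X _ hX hhas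
    obtain ⟨n, v, hv, hv', -⟩ := RedRank.exists_torus_rank (RedRank.isTorus_bc hX q)
    haveI := hv; haveI := hv'
    obtain ⟨w', hw', hw''⟩ := TorusField.exists_DS_iso
      (AlgebraicClosure ((Spec (CommRingCat.of L)).residueField z)) (Fin n → ℤ)
    haveI := hw'; haveI := hw''
    have hnr : n = r := by
      refine le_antisymm ((hhas n).1 ((RedRank.has_iff _ n).2 ⟨v.hom, inferInstance, inferInstance⟩)) ?_
      obtain ⟨j', hj', hjm'⟩ := (RedRank.has_iff _ r).1 ((hhas r).2 le_rfl)
      haveI := hj'; haveI := hjm'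
      exact (RedRank.le_and_isIso_of_mono (j' ≫ v.inv)).1
    subst hnr
    let E := v.symm ≪≫ w'
    haveI : IsMonHom E.hom := inferInstanceAs (IsMonHom (v.inv ≫ w'.hom))
    exact ⟨Grp.mkIso E (IsMonHom.one_hom E.hom) (IsMonHom.mul_hom E.hom)⟩
  refine ⟨r, hsplit _ (RedRank.isTorus_DS _ r) (fun m => MaxTorusRank.has_bc_DS_iff q r m),
    hsplit _ (RedRank.isTorus_bc hT (x ≫ g)) fun m => ?_⟩
  rw [MaxTorusRank.has_bc_bc_iff]
  exact (hr _ _ (Subsingleton.elim _ _)).1 m

end Groth.Agent.TorusFib
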